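import Groth.Agent.Elkik88.Principal
import Groth.Agent.Hensel.Pair

/-!
# Elkik approximation for algebras of finite type that are smooth off `V(J)`
-/

set_option autoImplicit false

universe u

namespace Groth.Agent.Elkik88

open MvPolynomial

variable {R : Type u} [CommRing R]

/-- Principal approximation with values in an algebra. -/
theorem exists_algHom_of_approx_alg {A : Type u} [CommRing A] [Algebra R A] (t : R)
    [HenselianRing A (Ideal.span {algebraMap R A t})] {N : ℕ}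
    (hbd : ∀ a : A, (∃ m : ℕ, algebraMap R A t ^ m * a = 0) → algebraMap R A t ^ N * a = 0)
    (B : Type u) [CommRing B] [Algebra R B] [Algebra.FiniteType R B]
    (hsm : Algebra.Smooth (Localization.Away t)
      (Localization (Algebra.algebraMapSubmonoid B (Submonoid.powers t))))
    (n : ℕ) :
    ∃ L, n ≤ L ∧ ∀ σ : B →ₐ[R] A ⧸ Ideal.span {algebraMap R A t} ^ L, ∃ τ : B →ₐ[R] A,
      ∀ b r, Ideal.Quotient.mk (Ideal.span {algebraMap R A t} ^ L) r = σ b →
        τ b - r ∈ Ideal.span {algebraMap R A t} ^ n := by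
  classical
  let u := algebraMap R A t
  obtain ⟨d, π, hπ⟩ := Algebra.FiniteType.iff_quotient_mvPolynomial''.mp ‹Algebra.FiniteType R B›
  obtain ⟨m, f, M, e, hf, hker, hid⟩ := exists_equations t B hsm π hπ
  let φ : MvPolynomial (Fin d) R →+* MvPolynomial (Fin d) A := map (algebraMap R A)
  have hev : ∀ (y : Fin d → A) (p : MvPolynomial (Fin d) R), aeval y (φ p) = aeval y p := fun y p =>
    (aeval_map_algebraMap A y p)
  have hidA : ∀ i, C (u ^ e) * φ (f i) - ∑ j, (∑ k, pderiv k (φ (f i)) * φ (M k j)) * φ (f j) ∈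
      Ideal.span (Set.range fun i => φ (f i)) ^ 2 := by
    intro i
    have h := Ideal.mem_map_of_mem φ (hid i)
    rw [Ideal.map_pow, Ideal.map_span, ← Set.range_comp] at h
    change _ ∈ Ideal.span (Set.range fun i => φ (f i)) ^ 2 at h
    convert h using 1
    simp only [φ, map_sub, map_mul, map_sum, map_C, pderiv_map, map_pow, u]
  let s := n + N + e + 1
  refine ⟨s + e + 1, by omega, fun σ => ?_⟩
  choose y₀ hy₀ using fun k => Ideal.Quotient.mk_surjective (σ (π (X k)))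
  have hσ : ∀ p, Ideal.Quotient.mk (Ideal.span {u} ^ (s + e + 1)) (aeval y₀ p) = σ (π p) := by
    have : (Ideal.Quotient.mkₐ R (Ideal.span {u} ^ (s + e + 1))).comp (aeval y₀) = σ.comp π :=
      MvPolynomial.algHom_ext fun k => by simp [hy₀ k, u]
    exact fun p => AlgHom.congr_fun this p
  obtain ⟨y, hy, hyy⟩ := exists_root_of_approx u hbd (fun i => φ (f i)) (fun k j => φ (M k j)) e hidA s
    (by omega) (by omega) y₀ fun i => by
      rw [← Ideal.span_singleton_pow, ← Ideal.Quotient.eq_zero_iff_mem, hev, hσ, hf, map_zero]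
  have hsub : ∀ p : MvPolynomial (Fin d) R, aeval y p - aeval y₀ p ∈ Ideal.span {u ^ s} := fun p => by
    have h := (taylor_mem (C := A) (Ideal.span {u ^ s}) y₀ (fun k => y k - y₀ k) hyy p).1
    rwa [show y₀ + (fun k => y k - y₀ k) = y from funext fun k => add_sub_cancel (y₀ k) (y k)] at h
  have hs : Ideal.span {u} ^ (s + e + 1) ≤ Ideal.span {u ^ s} := by
    rw [← Ideal.span_singleton_pow]; exact Ideal.pow_le_pow_right (by omega)
  have hzero : ∀ p : MvPolynomial (Fin d) R, π p = 0 → aeval y p = 0 := fun p hp => by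
    obtain ⟨a, ha⟩ := hker p hp
    refine eq_zero_of_torsion u hbd (show N ≤ s by omega) ?_ (m := a) ?_
    · have h1 : aeval y₀ p ∈ Ideal.span {u ^ s} :=
        hs (by rw [← Ideal.Quotient.eq_zero_iff_mem, hσ, hp, map_zero])
      simpa using add_mem (hsub p) h1
    · have : Ideal.span (Set.range f) ≤ RingHom.ker (aeval (R := R) y) :=
        Ideal.span_le.mpr (Set.range_subset_iff.mpr fun i => (hev y (f i)).symm.trans (hy i))
      have h0 : aeval y (C (t ^ a) * p) = 0 := this ha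
      simpa [u] using h0
  let τ : B →ₐ[R] A := (Ideal.Quotient.liftₐ (RingHom.ker π) (aeval y)
    fun p hp => hzero p hp).comp (Ideal.quotientKerAlgEquivOfSurjective hπ).symm.toAlgHom
  refine ⟨τ, fun b r hr => ?_⟩
  obtain ⟨p, rfl⟩ := hπ b
  have hτ : τ (π p) = aeval y p := by
    have e : (Ideal.quotientKerAlgEquivOfSurjective hπ).symm (π p) = Ideal.Quotient.mk _ p := by
      rw [AlgEquiv.symm_apply_eq]; rfl
    show Ideal.Quotient.liftₐ (RingHom.ker π) (aeval y) (fun p hp => hzero p hp)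
      ((Ideal.quotientKerAlgEquivOfSurjective hπ).symm (π p)) = _
    rw [e]
    rfl
  rw [hτ, ← sub_add_sub_cancel _ (aeval y₀ p)]
  refine add_mem ?_ (Ideal.pow_le_pow_right (by omega : n ≤ s + e + 1)
    (Ideal.Quotient.eq.mp ((hσ p).trans hr.symm)))
  have hns : Ideal.span {u ^ s} ≤ Ideal.span {u} ^ n := by
    rw [← Ideal.span_singleton_pow]; exact Ideal.pow_le_pow_right (by omega)
  exact hns (hsub p)

/-- In a Noetherian ring the `t`-power torsion is bounded. -/
theorem exists_torsion_bound {A : Type u} [CommRing A] [IsNoetherianRing A] (t : A) :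
    ∃ N, ∀ a : A, (∃ m : ℕ, t ^ m * a = 0) → t ^ N * a = 0 := by
  let T : ℕ →o Ideal A := ⟨fun m => LinearMap.ker (LinearMap.mulLeft A (t ^ m)), fun m m' h a ha => by
    obtain ⟨c, rfl⟩ := Nat.exists_eq_add_of_le h
    simp only [LinearMap.mem_ker, LinearMap.mulLeft_apply] at ha ⊢
    rw [add_comm, pow_add, mul_assoc, ha, mul_zero]⟩
  obtain ⟨N, hN⟩ := monotone_stabilizes_iff_noetherian.mpr (inferInstance : IsNoetherian A A) T
  refine ⟨N, fun a ⟨m, hm⟩ => ?_⟩
  have h1 : a ∈ T (max N m) := T.mono (le_max_right N m) hm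
  rwa [← hN _ (le_max_left N m)] at h1

/-- A compatible system of homomorphisms modulo the powers of an ideal. -/
theorem exists_algHom_congr [IsNoetherianRing R] (B : Type u) [CommRing B] [Algebra R B]
    [Algebra.FiniteType R B] (J : Ideal R) [HenselianRing R J]
    (hsm : ∀ t ∈ J, Algebra.Smooth (Localization.Away t)
      (Localization (Algebra.algebraMapSubmonoid B (Submonoid.powers t)))) :
    ∀ (g : List R), (∀ x ∈ g, x ∈ J) → ∀ 𝔞 : Ideal R,
      J ≤ (𝔞 ⊔ Ideal.span {x | x ∈ g}).radical →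
      ∀ σ : ∀ k : ℕ, B →ₐ[R] R ⧸ (𝔞 ⊔ J ^ k),
      (∀ k l, k ≤ l → ∀ b r, Ideal.Quotient.mk _ r = σ l b → Ideal.Quotient.mk _ r = σ k b) →
      ∀ n, ∃ τ : B →ₐ[R] R ⧸ 𝔞, ∀ b r, Ideal.Quotient.mk _ r = τ b → Ideal.Quotient.mk _ r = σ n b := by
  intro g
  induction g with
  | nil =>
    intro _ 𝔞 hrad σ hσ n
    simp only [List.not_mem_nil, Set.setOf_false, Ideal.span_empty, sup_bot_eq] at hrad
    obtain ⟨c, hc⟩ := Ideal.exists_pow_le_of_le_radical_of_fg hrad (IsNoetherian.noetherian J)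
    have hle : J ^ (max c n) ≤ 𝔞 := (Ideal.pow_le_pow_right (le_max_left c n)).trans hc
    refine ⟨(Ideal.Quotient.factorₐ R (sup_le le_rfl hle)).comp (σ (max c n)), fun b r hr => ?_⟩
    refine hσ n _ (le_max_right c n) b r ?_
    obtain ⟨r', hr'⟩ := Ideal.Quotient.mk_surjective (σ (max c n) b)
    rw [← hr', Ideal.Quotient.eq]
    rw [AlgHom.comp_apply, ← hr'] at hr
    exact (le_sup_left : 𝔞 ≤ 𝔞 ⊔ J ^ max c n) (Ideal.Quotient.eq.mp hr)
  | cons t g ih =>
    intro hg 𝔞 hrad σ hσ n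
    haveI : HenselianRing (R ⧸ 𝔞) (J.map (Ideal.Quotient.mk 𝔞)) := Hensel.henselianRing_quotient 𝔞
    have htJ : t ∈ J := hg t List.mem_cons_self
    haveI : HenselianRing (R ⧸ 𝔞) (Ideal.span {algebraMap R (R ⧸ 𝔞) t}) :=
      Hensel.henselianRing_of_le (J := J.map (Ideal.Quotient.mk 𝔞))
        ((Ideal.span_singleton_le_iff_mem _).mpr (Ideal.mem_map_of_mem _ htJ))
    obtain ⟨N, hN⟩ := exists_torsion_bound (algebraMap R (R ⧸ 𝔞) t)
    obtain ⟨L, hnL, hL⟩ := exists_algHom_of_approx_alg t hN B (hsm t htJ) n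
    have hle : ∀ k, 𝔞 ⊔ J ^ k ≤ (𝔞 ⊔ Ideal.span {t ^ L}) ⊔ J ^ k := fun k => sup_le_sup_right le_sup_left _
    have hrad' : J ≤ ((𝔞 ⊔ Ideal.span {t ^ L}) ⊔ Ideal.span {x | x ∈ g}).radical := by
      refine hrad.trans (Ideal.radical_le_radical_iff.mpr (sup_le ?_ (Ideal.span_le.mpr ?_)))
      · exact (le_sup_left.trans le_sup_left).trans Ideal.le_radical
      · intro x hx
        rcases List.mem_cons.mp hx with rfl | hx
        · exact ⟨L, (le_sup_right.trans le_sup_left :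
            Ideal.span {x ^ L} ≤ _) (Ideal.mem_span_singleton_self _)⟩
        · exact Ideal.le_radical (le_sup_right (a := 𝔞 ⊔ Ideal.span {t ^ L}) (Ideal.subset_span hx))
    have hσ' : ∀ k l, k ≤ l → ∀ b r,
        Ideal.Quotient.mk _ r = (Ideal.Quotient.factorₐ R (hle l)).comp (σ l) b →
        Ideal.Quotient.mk _ r = (Ideal.Quotient.factorₐ R (hle k)).comp (σ k) b := by
      intro k l hkl b r hr
      obtain ⟨r', hr'⟩ := Ideal.Quotient.mk_surjective (σ l b)
      rw [AlgHom.comp_apply, ← hr'] at hr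
      rw [AlgHom.comp_apply, ← hσ k l hkl b r' hr']
      have hsub : (𝔞 ⊔ Ideal.span {t ^ L}) ⊔ J ^ l ≤ (𝔞 ⊔ Ideal.span {t ^ L}) ⊔ J ^ k :=
        sup_le_sup_left (Ideal.pow_le_pow_right hkl) _
      exact Ideal.Quotient.eq.mpr (hsub (Ideal.Quotient.eq.mp hr))
    obtain ⟨τ', hτ'⟩ := ih (fun x hx => hg x (List.mem_cons_of_mem _ hx)) (𝔞 ⊔ Ideal.span {t ^ L}) hrad'
      (fun k => (Ideal.Quotient.factorₐ R (hle k)).comp (σ k)) hσ' n
    let ψ : (R ⧸ (𝔞 ⊔ Ideal.span {t ^ L})) →ₐ[R]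
        (R ⧸ 𝔞) ⧸ Ideal.span {algebraMap R (R ⧸ 𝔞) t} ^ L :=
      Ideal.Quotient.liftₐ _ (Algebra.ofId R _) fun x hx => by
        have h2 : 𝔞 ⊔ Ideal.span {t ^ L} ≤ (Ideal.span {algebraMap R (R ⧸ 𝔞) t} ^ L).comap
            (algebraMap R (R ⧸ 𝔞)) := by
          refine sup_le (fun y hy => ?_) ((Ideal.span_singleton_le_iff_mem _).mpr ?_)
          · rw [Ideal.mem_comap, Ideal.Quotient.algebraMap_eq, Ideal.Quotient.eq_zero_iff_mem.mpr hy]
            exact zero_mem _
          · rw [Ideal.mem_comap, map_pow]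
            exact Ideal.pow_mem_pow (Ideal.mem_span_singleton_self _) L
        exact Ideal.Quotient.eq_zero_iff_mem.mpr (h2 hx)
    obtain ⟨τ, hτ⟩ := hL (ψ.comp τ')
    refine ⟨τ, fun b r hr => ?_⟩
    obtain ⟨r', hr'⟩ := Ideal.Quotient.mk_surjective (τ' b)
    have h1 := hτ' b r' hr'
    have h2 := hτ b (Ideal.Quotient.mk 𝔞 r') (by rw [AlgHom.comp_apply, ← hr']; rfl)
    rw [← hr, ← map_sub] at h2
    obtain ⟨c, hc⟩ := Ideal.Quotient.mk_surjective (σ n b)
    rw [AlgHom.comp_apply, ← hc] at h1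
    have h4 : r' - c ∈ (𝔞 ⊔ Ideal.span {t ^ L}) ⊔ J ^ n := Ideal.Quotient.eq.mp h1
    have hsup : (𝔞 ⊔ Ideal.span {t ^ L}) ⊔ J ^ n ≤ 𝔞 ⊔ J ^ n := by
      refine sup_le (sup_le le_sup_left ((Ideal.span_singleton_le_iff_mem _).mpr ?_)) le_sup_right
      exact (le_sup_right : J ^ n ≤ 𝔞 ⊔ J ^ n) (Ideal.pow_le_pow_right hnL (Ideal.pow_mem_pow htJ L))
    have h5 : r - r' ∈ 𝔞 ⊔ J ^ n := by
      have hcom : Ideal.span {algebraMap R (R ⧸ 𝔞) t} ^ n ≤ (J ^ n).map (Ideal.Quotient.mk 𝔞) := by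
        rw [Ideal.map_pow]
        exact Ideal.pow_right_mono ((Ideal.span_singleton_le_iff_mem _).mpr (Ideal.mem_map_of_mem _ htJ)) n
      have h6 : r - r' ∈ ((J ^ n).map (Ideal.Quotient.mk 𝔞)).comap (Ideal.Quotient.mk 𝔞) :=
        Ideal.mem_comap.mpr (hcom h2)
      rwa [Ideal.comap_map_of_surjective _ Ideal.Quotient.mk_surjective, ← RingHom.ker_eq_comap_bot,
        Ideal.mk_ker, sup_comm] at h6
    rw [← hc, Ideal.Quotient.eq, ← sub_add_sub_cancel r r' c]
    exact add_mem h5 (hsup h4)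

/-- Elkik: a point modulo all powers of `J` is congruent to a point. -/
theorem exists_algHom_of_compatible [IsNoetherianRing R] (B : Type u) [CommRing B] [Algebra R B]
    [Algebra.FiniteType R B] (J : Ideal R) [HenselianRing R J]
    (hsm : ∀ t ∈ J, Algebra.Smooth (Localization.Away t)
      (Localization (Algebra.algebraMapSubmonoid B (Submonoid.powers t))))
    (σ : ∀ k : ℕ, B →ₐ[R] R ⧸ J ^ k)
    (hσ : ∀ k l, k ≤ l → ∀ b r, Ideal.Quotient.mk _ r = σ l b → Ideal.Quotient.mk _ r = σ k b)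
    (n : ℕ) :
    ∃ τ : B →ₐ[R] R, ∀ b, Ideal.Quotient.mk (J ^ n) (τ b) = σ n b := by
  obtain ⟨s, hs⟩ := IsNoetherian.noetherian J
  have hgJ : ∀ x ∈ s.toList, x ∈ J := fun x hx => hs ▸ Submodule.subset_span (Finset.mem_toList.mp hx)
  have hrad : J ≤ ((⊥ : Ideal R) ⊔ Ideal.span {x | x ∈ s.toList}).radical := by
    rw [bot_sup_eq, show {x : R | x ∈ s.toList} = (s : Set R) by ext; simp, ← Ideal.submodule_span_eq, hs]
    exact Ideal.le_radical
  let e : ∀ k, (R ⧸ J ^ k) ≃ₐ[R] R ⧸ ((⊥ : Ideal R) ⊔ J ^ k) := fun k =>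
    Ideal.quotientEquivAlgOfEq R (bot_sup_eq _).symm
  have he : ∀ k r, (e k).symm (Ideal.Quotient.mk _ r) = Ideal.Quotient.mk _ r := fun k r => rfl
  obtain ⟨τ, hτ⟩ := exists_algHom_congr B J hsm s.toList hgJ ⊥ hrad
    (fun k => (e k).toAlgHom.comp (σ k)) (fun k l hkl b r hr => by
      apply (e k).symm.injective
      rw [he, AlgHom.comp_apply]
      refine (hσ k l hkl b r ?_).trans ((e k).symm_apply_apply _).symm
      rw [← he l r, hr, AlgHom.comp_apply]
      exact (e l).symm_apply_apply _) n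
  refine ⟨(AlgEquiv.quotientBot R R).toAlgHom.comp τ, fun b => ?_⟩
  obtain ⟨r, hr⟩ := Ideal.Quotient.mk_surjective (τ b)
  have h := hτ b r hr
  rw [AlgHom.comp_apply, ← hr]
  show Ideal.Quotient.mk (J ^ n) r = _
  rw [← he n r, h]
  exact (e n).symm_apply_apply _

end Groth.Agent.Elkik88
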