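import Groth.Agent.Elkik88.ProjPts
import Mathlib

/-!
# Affine charts of a closed subscheme of projective space over an open of an affine scheme
-/

set_option autoImplicit false

universe u

open CategoryTheory CategoryTheory.Limits AlgebraicGeometry MvPolynomial

namespace Groth.Agent.Elkik88

open Groth.Agent.Chow

noncomputable section

variable {N : ℕ} {A : Type u} [CommRing A]

theorem eq_mul_of_ptR_eq {T : Type u} [CommRing T] {v w : Fin (N + 1) → T} {i k : Fin (N + 1)}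
    (hi : IsUnit (v i)) (hk : IsUnit (w k)) (hw : w k = 1) (h : ptR v i hi = ptR w k hk) :
    IsUnit (v k) ∧ ∀ j, v j = v k * w j := by
  have hu : IsUnit (v k) := by
    by_contra hn
    obtain ⟨m, hm, hvm⟩ := exists_max_ideal_of_mem_nonunits (mem_nonunits_iff.mpr hn)
    let x : Spec (CommRingCat.of T) := ⟨m, hm.isPrime⟩
    have h1 := (mem_basicOpen_iff w k k hk x).mpr (by rw [hw]; exact fun h1 => hm.ne_top ((Ideal.eq_top_iff_one _).mpr h1))
    rw [← h] at h1
    exact (mem_basicOpen_iff v i k hi x).mp h1 hvm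
  refine ⟨hu, fun j => ?_⟩
  obtain ⟨c, hc⟩ := hu
  have h2 : ptR (fun j => (↑c⁻¹ : T) * v j) k ((c⁻¹.isUnit).mul ⟨c, hc⟩) = ptR w k hk := by
    rw [ptR_scale v _ c⁻¹.isUnit k ⟨c, hc⟩ _, ← h]
    exact ptR_eq v _ _
  have h3 := congrFun (ptR_injective ((c⁻¹.isUnit).mul ⟨c, hc⟩) hk (by simp [← hc]) hw h2) j
  rw [← h3, ← hc, Units.mul_inv_cancel_left]

theorem ptR_eq_of_minor {T : Type u} [CommRing T] {v w : Fin (N + 1) → T} {i k : Fin (N + 1)}
    (hi : IsUnit (v i)) (hk : IsUnit (w k)) (h : ∀ a b, v a * w b = v b * w a) :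
    ptR v i hi = ptR w k hk := by
  obtain ⟨c, hc⟩ := hi
  have hw : w = fun j => (↑c⁻¹ * w i) * v j := by
    funext j
    rw [mul_assoc, mul_comm (w i), h j i, ← hc, Units.inv_mul_cancel_left]
  have hu : IsUnit ((↑c⁻¹ : T) * w i) := by
    have : IsUnit ((↑c⁻¹ * w i) * v k) := congrFun hw k ▸ hk
    exact isUnit_of_mul_isUnit_left this
  have hki : IsUnit ((↑c⁻¹ * w i) * v i) := hu.mul ⟨c, hc⟩
  calc ptR v i ⟨c, hc⟩ = ptR (fun j => (↑c⁻¹ * w i) * v j) i hki := (ptR_scale v _ hu i _ _).symm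
    _ = ptR (fun j => (↑c⁻¹ * w i) * v j) k (congrFun hw k ▸ hk) := ptR_eq _ _ _
    _ = ptR w k hk := ptR_congr hw.symm _ _ _

variable {U : (Spec (CommRingCat.of A)).Opens} {Z : Scheme.{u}}
  (κ : Z ⟶ CohB1.ProjSpaceOver N (U : Scheme.{u}))

/-- The structure morphism to the affine base. -/
abbrev bZ : Z ⟶ Spec (CommRingCat.of A) :=
  κ ≫ CohB1.ProjSpaceOver.toBase N (U : Scheme.{u}) ≫ U.ι

/-- A chart: the affine open over `D(k)` where the `i`-th coordinate does not vanish. -/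
structure Chart (k : A) (i : Fin (N + 1)) where
  C : Type u
  [ring : CommRing C]
  [alg : Algebra A C]
  e : Spec (CommRingCat.of C) ⟶ Z
  openImm : IsOpenImmersion e
  base : e ≫ bZ κ = Spec.map (CommRingCat.ofHom (algebraMap A C))
  v : Fin (N + 1) → C
  one : v i = 1
  unit_k : IsUnit (algebraMap A C k)
  coord : e ≫ κ ≫ toZ (U : Scheme.{u}) N = ptR v i (one ▸ isUnit_one)
  gen : ∀ c, ∃ (p : MvPolynomial (Fin (N + 1)) A) (n : ℕ), algebraMap A C k ^ n * c = aeval v p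
  mem_range : ∀ z, z ∈ Set.range e ↔
    toZ (U : Scheme.{u}) N (κ z) ∈ Proj.basicOpen (CohB1.polyGrading N Zu.{u}) (X i) ∧ k ∉ (bZ κ z).asIdeal

attribute [instance] Chart.ring Chart.alg

/-- Chart coordinates on the ambient projective space generate, and cut out an affine open. -/
theorem exists_chart [IsClosedImmersion κ] (k : A) (hk : PrimeSpectrum.basicOpen k ≤ U)
    (i : Fin (N + 1)) : Nonempty (Chart κ k i) := by
  classical
  let V : (U : Scheme.{u}).Opens := U.ι ⁻¹ᵁ PrimeSpectrum.basicOpen k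
  have hV : IsAffineOpen V :=
    (IsAffineOpen.Spec_basicOpen k).preimage_of_isOpenImmersion U.ι (by rwa [Scheme.Opens.opensRange_ι])
  obtain ⟨Ω, hΩ, hΩdef⟩ := exists_chart_P N i hV
  let bP : CohB1.ProjSpaceOver N (U : Scheme.{u}) ⟶ Spec (CommRingCat.of A) :=
    CohB1.ProjSpaceOver.toBase N (U : Scheme.{u}) ≫ U.ι
  let O : CommRingCat.{u} := Γ(CohB1.ProjSpaceOver N (U : Scheme.{u}), Ω)
  let φ : Γ(CohB1.ProjSpaceOver N (U : Scheme.{u}), Ω) ⟶ Γ(Z, κ ⁻¹ᵁ Ω) := κ.app Ω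
  let α : CommRingCat.of A ⟶ O := Spec.preimage (hΩ.fromSpec ≫ bP)
  letI algO : Algebra A O := α.hom.toAlgebra
  letI algC : Algebra A Γ(Z, κ ⁻¹ᵁ Ω) := (φ.hom.comp α.hom).toAlgebra
  have hbaseO : hΩ.fromSpec ≫ bP = Spec.map (CommRingCat.ofHom (algebraMap A O)) :=
    (Spec.map_preimage _).symm
  have hmemO : ∀ x, hΩ.fromSpec x ∈ Ω := fun x => by
    have := Set.mem_range_self (f := hΩ.fromSpec) x
    rwa [hΩ.range_fromSpec] at this
  have hcond : ∀ p, p ∈ Ω ↔
      toZ (U : Scheme.{u}) N p ∈ Proj.basicOpen (CohB1.polyGrading N Zu.{u}) (X i) ∧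
        k ∉ (bP p).asIdeal := fun p => by rw [hΩdef]; exact Iff.rfl
  obtain ⟨v, hu, hv1, hv⟩ := exists_ptR (hΩ.fromSpec ≫ toZ (U : Scheme.{u}) N)
    fun x => ((hcond _).mp (hmemO x)).1
  have hkO : IsUnit (algebraMap A O k) := by
    by_contra hn
    obtain ⟨m, hm, hkm⟩ := exists_max_ideal_of_mem_nonunits (mem_nonunits_iff.mpr hn)
    let x : Spec O := ⟨m, hm.isPrime⟩
    have h1 := ((hcond _).mp (hmemO x)).2
    rw [show bP (hΩ.fromSpec x) = Spec.map (CommRingCat.ofHom (algebraMap A O)) x by rw [← hbaseO]; rfl] at h1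
    exact h1 hkm
  -- generation
  let B : Type u := MvPolynomial (Fin (N + 1)) A
  let Q : Type u := Localization.Away (MvPolynomial.C k : B)
  let w : Fin (N + 1) → Q := fun j => if j = i then 1 else algebraMap B Q (X j)
  have hwi : w i = 1 := if_pos rfl
  have hψu : IsUnit (aeval v (MvPolynomial.C k : B)) := by rwa [aeval_C]
  let ψ : Q →ₐ[A] O := IsLocalization.Away.liftAlgHom (MvPolynomial.C k : B) (f := aeval v) hψu
  have hψB : ∀ p, ψ (algebraMap B Q p) = aeval v p := fun p => by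
    rw [IsLocalization.Away.liftAlgHom_apply]
    exact IsLocalization.Away.lift_eq _ hψu p
  have hψw : ψ.toRingHom ∘ w = v := by
    funext j
    by_cases hj : j = i
    · subst hj
      show ψ (w j) = v j
      rw [hwi, map_one, hv1]
    · show ψ (w j) = v j
      rw [show w j = algebraMap B Q (X j) from if_neg hj, hψB, aeval_X]
  have hkQ : IsUnit (algebraMap A Q k) := by
    rw [IsScalarTower.algebraMap_apply A B Q]
    exact IsLocalization.Away.algebraMap_isUnit (S := Q) (MvPolynomial.C k : B)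
  have hrQ : Set.range (Spec.map (CommRingCat.ofHom (algebraMap A Q))) ⊆ Set.range U.ι := by
    rintro _ ⟨x, rfl⟩
    rw [Scheme.Opens.range_ι]
    exact hk fun hx => x.isPrime.ne_top (Ideal.eq_top_of_isUnit_mem _ hx hkQ)
  let θ : Spec (CommRingCat.of Q) ⟶ CohB1.ProjSpaceOver N (U : Scheme.{u}) :=
    mkPt (U : Scheme.{u}) (ptR w i (hwi ▸ isUnit_one))
      (IsOpenImmersion.lift U.ι (Spec.map (CommRingCat.ofHom (algebraMap A Q))) hrQ)
  have hθb : θ ≫ bP = Spec.map (CommRingCat.ofHom (algebraMap A Q)) := by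
    rw [mkPt_toBase_assoc, IsOpenImmersion.lift_fac]
  have h1 : Spec.map (CommRingCat.ofHom ψ.toRingHom) ≫ θ = hΩ.fromSpec := by
    refine pso_hom_ext _ _ _ ?_ ?_
    · rw [Category.assoc, mkPt_toZ, comp_ptR, hv]
      exact ptR_congr hψw _ _ _
    · rw [← cancel_mono U.ι, Category.assoc, Category.assoc, Category.assoc, hθb, hbaseO,
        ← Spec.map_comp, ← CommRingCat.ofHom_comp, AlgHom.toRingHom_eq_coe, AlgHom.comp_algebraMap]
  have hθr : Set.range θ ⊆ Set.range hΩ.fromSpec := by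
    rintro _ ⟨x, rfl⟩
    rw [hΩ.range_fromSpec]
    refine (hcond _).mpr ⟨?_, ?_⟩
    · rw [← Scheme.Hom.comp_apply, mkPt_toZ]
      exact (mem_basicOpen_iff w i i _ x).mpr (by rw [hwi]; exact fun h => x.isPrime.ne_top ((Ideal.eq_top_iff_one _).mpr h))
    · rw [← Scheme.Hom.comp_apply, hθb]
      exact fun hx => x.isPrime.ne_top (Ideal.eq_top_of_isUnit_mem _ hx hkQ)
  obtain ⟨ψ', hψ'⟩ := Spec.map_surjective (IsOpenImmersion.lift hΩ.fromSpec θ hθr)
  have h2 : ψ' ≫ CommRingCat.ofHom ψ.toRingHom = 𝟙 O := by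
    refine Spec.map_injective ?_
    rw [← cancel_mono hΩ.fromSpec, Spec.map_comp, Category.assoc, hψ', IsOpenImmersion.lift_fac, h1,
      Spec.map_id]
    exact (Category.id_comp _).symm
  have hgenO : ∀ o : O, ∃ (p : B) (n : ℕ), algebraMap A O k ^ n * o = aeval v p := fun o => by
    obtain ⟨n, p, hp⟩ := IsLocalization.Away.surj (MvPolynomial.C k : B) (ψ' o : Q)
    refine ⟨p, n, ?_⟩
    have h3 : ψ (ψ' o) = o := congrArg (fun f : O ⟶ O => f o) h2
    have h4 := congrArg ψ hp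
    rw [map_mul, map_pow, hψB, hψB, aeval_C, h3, mul_comm] at h4
    exact h4
  -- the closed subscheme
  have hZ : IsAffineOpen (κ ⁻¹ᵁ Ω) := hΩ.preimage κ
  have he : hZ.fromSpec ≫ κ = Spec.map φ ≫ hΩ.fromSpec := by
    rw [← IsAffineOpen.SpecMap_appLE_fromSpec κ hΩ hZ le_rfl, Scheme.Hom.appLE_eq_app]
  refine ⟨{
    C := Γ(Z, κ ⁻¹ᵁ Ω)
    e := hZ.fromSpec
    openImm := inferInstance
    base := ?_
    v := fun j => φ (v j)
    one := by show φ (v i) = 1; rw [hv1, map_one]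
    unit_k := hkO.map φ.hom
    coord := ?_
    gen := fun c => ?_
    mem_range := fun z => ?_ }⟩
  · show hZ.fromSpec ≫ κ ≫ bP = _
    rw [reassoc_of% he, hbaseO, ← Spec.map_comp]
    rfl
  · rw [reassoc_of% he, hv]
    exact comp_ptR φ.hom v i hu
  · obtain ⟨o, rfl⟩ := κ.app_surjective Ω hΩ c
    obtain ⟨p, n, hp⟩ := hgenO o
    refine ⟨p, n, ?_⟩
    have h5 := congrArg φ.hom hp
    rw [map_mul, map_pow] at h5
    refine h5.trans ?_
    exact (comp_aeval_apply (⟨φ.hom, fun _ => rfl⟩ : O →ₐ[A] Γ(Z, κ ⁻¹ᵁ Ω)) (f := v) p)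
  · rw [hZ.range_fromSpec]
    exact hcond (κ z)

variable {κ}

theorem Chart.pt_coord {k : A} {i : Fin (N + 1)} (c : Chart κ k i) {T : Type u} [CommRing T]
    [Algebra A T] (φ : c.C →ₐ[A] T) :
    (Spec.map (CommRingCat.ofHom φ.toRingHom) ≫ c.e) ≫ κ ≫ toZ (U : Scheme.{u}) N =
      ptR (φ ∘ c.v) i (by show IsUnit (φ (c.v i)); rw [c.one, map_one]; exact isUnit_one) := by
  rw [Category.assoc, c.coord, comp_ptR]
  rfl

theorem Chart.pt_base {k : A} {i : Fin (N + 1)} (c : Chart κ k i) {T : Type u} [CommRing T]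
    [Algebra A T] (φ : c.C →ₐ[A] T) :
    (Spec.map (CommRingCat.ofHom φ.toRingHom) ≫ c.e) ≫ bZ κ =
      Spec.map (CommRingCat.ofHom (algebraMap A T)) := by
  rw [Category.assoc, c.base, ← Spec.map_comp, ← CommRingCat.ofHom_comp, AlgHom.toRingHom_eq_coe,
    AlgHom.comp_algebraMap]

/-- A point with coordinates in a chart factors through it. -/
theorem Chart.exists_lift {k : A} {i : Fin (N + 1)} (c : Chart κ k i) {T : Type u} [CommRing T]
    [Algebra A T] (h : Spec (CommRingCat.of T) ⟶ Z)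
    (hb : h ≫ bZ κ = Spec.map (CommRingCat.ofHom (algebraMap A T))) (w : Fin (N + 1) → T)
    (j : Fin (N + 1)) (hj : IsUnit (w j)) (hw : h ≫ κ ≫ toZ (U : Scheme.{u}) N = ptR w j hj)
    (hwi : IsUnit (w i)) (hk : IsUnit (algebraMap A T k)) :
    ∃ φ : c.C →ₐ[A] T, Spec.map (CommRingCat.ofHom φ.toRingHom) ≫ c.e = h ∧
      ∀ a, w i * φ (c.v a) = w a := by
  haveI := c.openImm
  have hr : Set.range h ⊆ Set.range c.e := by
    rintro _ ⟨x, rfl⟩
    refine (c.mem_range _).mpr ⟨?_, ?_⟩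
    · rw [← Scheme.Hom.comp_apply, ← Scheme.Hom.comp_apply, hw]
      exact (mem_basicOpen_iff w j i hj x).mpr fun hx => x.isPrime.ne_top (Ideal.eq_top_of_isUnit_mem _ hx hwi)
    · rw [← Scheme.Hom.comp_apply, hb]
      exact fun hx => x.isPrime.ne_top (Ideal.eq_top_of_isUnit_mem _ hx hk)
  obtain ⟨α, hα⟩ := Spec.map_surjective (IsOpenImmersion.lift c.e h hr)
  have hαe : Spec.map α ≫ c.e = h := by rw [hα, IsOpenImmersion.lift_fac]
  have hA : CommRingCat.ofHom (algebraMap A c.C) ≫ α = CommRingCat.ofHom (algebraMap A T) :=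
    Spec.map_injective (by rw [Spec.map_comp, ← c.base, ← Category.assoc, hαe, hb])
  let φ : c.C →ₐ[A] T := ⟨α.hom, fun r => congrArg (fun f : CommRingCat.of A ⟶ CommRingCat.of T => f r) hA⟩
  refine ⟨φ, hαe, fun a => ?_⟩
  have h1 : ptR w j hj = ptR (φ ∘ c.v) i
      (by show IsUnit (φ (c.v i)); rw [c.one, map_one]; exact isUnit_one) := by
    rw [← hw, ← c.pt_coord φ, show Spec.map (CommRingCat.ofHom φ.toRingHom) ≫ c.e = h from hαe]
  exact ((eq_mul_of_ptR_eq hj _ (by show φ (c.v i) = 1; rw [c.one, map_one]) h1).2 a).symm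

end

end Groth.Agent.Elkik88
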