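import Groth.Agent.Elkik88.HatSol
import Mathlib

/-!
# The section attached to a solution of the system
-/

set_option autoImplicit false

universe u

open CategoryTheory CategoryTheory.Limits AlgebraicGeometry MvPolynomial

namespace Groth.Agent.Elkik88

open Groth.Agent.Chow

noncomputable section

variable {N L : ℕ} {A : Type u} [CommRing A]
variable {U : (Spec (CommRingCat.of A)).Opens} {Z X₀ : Scheme.{u}}
  {κ : Z ⟶ CohB1.ProjSpaceOver N (U : Scheme.{u})} {ι : X₀ ⟶ Z}
  {k : Fin L → A} {c : ∀ l i, Chart κ (k l) i}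

theorem point_ext [IsClosedImmersion κ] [IsOpenImmersion ι] {T : Scheme.{u}} (a b : T ⟶ X₀)
    (h1 : a ≫ ι ≫ bZ κ = b ≫ ι ≫ bZ κ)
    (h2 : a ≫ ι ≫ κ ≫ toZ (U : Scheme.{u}) N = b ≫ ι ≫ κ ≫ toZ (U : Scheme.{u}) N) : a = b := by
  rw [← cancel_mono ι, ← cancel_mono κ]
  refine pso_hom_ext _ _ _ (by simpa only [Category.assoc] using h2) ?_
  rw [← cancel_mono U.ι]
  simpa only [Category.assoc] using h1

theorem mem_of_unit {B : Type u} [CommRing B] {h r : B} (hr : IsUnit (algebraMap B (Localization.Away h) r))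
    (P : PrimeSpectrum B) (hh : h ∉ P.asIdeal) : r ∉ P.asIdeal := fun hrP => by
  obtain ⟨q, hq⟩ : P ∈
      Set.range (PrimeSpectrum.comap (algebraMap B (Localization.Away h))) := by
    rw [PrimeSpectrum.localization_away_comap_range (Localization.Away h) h]
    exact hh
  exact q.isPrime.ne_top (Ideal.eq_top_of_isUnit_mem _
    ((congrArg (fun z : PrimeSpectrum B => r ∈ z.asIdeal) hq).mpr hrP) hr)

variable (fs : Forms κ ι k c) {b m : ℕ} (x : fs.sys.Var b → A)

/-- The vectors of a solution. -/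
abbrev vec (p : Fin b) : Fin (N + 1) → A := fun j => x (.inl (p, j))

/-- The element cutting out a piece of the section. -/
def pieceElem (z : Fin L × Fin b × Fin fs.cG × Fin (N + 1)) : A :=
  k z.1 * aeval (vec fs x z.2.1) (fs.G z.2.2.1) * vec fs x z.2.1 z.2.2.2

theorem exists_pieceHom [IsClosedImmersion κ] [IsOpenImmersion ι] (hx : fs.sys.IsSol b m A x)
    (z : Fin L × Fin b × Fin fs.cG × Fin (N + 1))
    (hu : IsUnit (algebraMap A (Localization.Away (pieceElem fs x z)) (vec fs x z.2.1 z.2.2.2))) :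
    ∃ P : Spec (CommRingCat.of (Localization.Away (pieceElem fs x z))) ⟶ X₀,
      P ≫ ι ≫ bZ κ = Spec.map (CommRingCat.ofHom (algebraMap A _)) ∧
      P ≫ ι ≫ κ ≫ toZ (U : Scheme.{u}) N =
        ptR (algebraMap A (Localization.Away (pieceElem fs x z)) ∘ vec fs x z.2.1) z.2.2.2 hu := by
  obtain ⟨l, p, g, i⟩ := z
  let T : Type u := Localization.Away (pieceElem fs x (l, p, g, i))
  let V : Fin (N + 1) → T := algebraMap A T ∘ vec fs x p
  have hs : IsUnit (algebraMap A T (k l * aeval (vec fs x p) (fs.G g) * vec fs x p i)) :=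
    IsLocalization.Away.algebraMap_isUnit (pieceElem fs x (l, p, g, i))
  rw [map_mul, map_mul, IsUnit.mul_iff, IsUnit.mul_iff] at hs
  obtain ⟨⟨hk, hG⟩, hVi⟩ := hs
  obtain ⟨u, hu'⟩ := hVi
  have hui : IsUnit ((↑u⁻¹ : T) * V i) := u⁻¹.isUnit.mul ⟨u, hu'⟩
  let w : Fin (N + 1) → T := fun j => (↑u⁻¹ : T) * V j
  have hw : w i = 1 := by
    show (↑u⁻¹ : T) * algebraMap A T (vec fs x p i) = 1
    rw [← hu', Units.inv_mul]
  have hV : ∀ P : MvPolynomial (Fin (N + 1)) A, aeval V P = algebraMap A T (aeval (vec fs x p) P) :=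
    fun P => aeval_algebraMap_apply T (vec fs x p) P
  have hF : ∀ j, aeval w (fs.F j) = 0 := fun j => by
    have h1 : algebraMap A T (k l ^ m * aeval (vec fs x p) (fs.F j)) = 0 := by
      rw [show k l ^ m * aeval (vec fs x p) (fs.F j) = 0 from hx.vanish l j p, map_zero]
    rw [map_mul, map_pow, ← hV] at h1
    rw [show aeval w (fs.F j) = _ from aeval_mul_left V (↑u⁻¹ : T) (fs.hF j),
      (hk.pow m).mul_right_eq_zero.mp h1, mul_zero]
  obtain ⟨φ, hφ⟩ := exists_chart_hom l i w hw hk (fs.aeval_eq_zero hF)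
  have hGφ : IsUnit (φ (aeval (c l i).v (fs.G g))) := by
    rw [comp_aeval_apply, show (fun j => φ ((c l i).v j)) = w from funext hφ,
      show aeval w (fs.G g) = _ from aeval_mul_left V (↑u⁻¹ : T) (fs.hG g), hV]
    exact (u⁻¹.isUnit.pow _).mul hG
  let h : Spec (CommRingCat.of T) ⟶ Z := Spec.map (CommRingCat.ofHom φ.toRingHom) ≫ (c l i).e
  have hr : Set.range h ⊆ Set.range ι := by
    rintro _ ⟨q, rfl⟩
    exact (fs.G_mem g).2 l i (Spec.map (CommRingCat.ofHom φ.toRingHom) q)
      fun hq => q.isPrime.ne_top (Ideal.eq_top_of_isUnit_mem _ hq hGφ)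
  refine ⟨IsOpenImmersion.lift ι h hr, ?_, ?_⟩
  · rw [IsOpenImmersion.lift_fac_assoc]
    exact (c l i).pt_base φ
  · rw [IsOpenImmersion.lift_fac_assoc, (c l i).pt_coord φ, ptR_congr (show φ ∘ (c l i).v = w from funext hφ) i _ hui]
    exact ptR_scale V _ u⁻¹.isUnit i _ hui

variable (J : Ideal A) {B : Type u} [CommRing B] [Algebra A B]

/-- A solution congruent to the coordinates of a point gives a section congruent to it. -/
theorem exists_section [IsClosedImmersion κ] [IsOpenImmersion ι] (hk : ∀ l, PrimeSpectrum.basicOpen (k l) ≤ U)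
    (hcov : ∀ q : PrimeSpectrum A, q ∈ U → ∃ l, k l ∉ q.asIdeal) (hx : fs.sys.IsSol b m A x)
    {Uh : (Spec (CommRingCat.of B)).Opens} (xh : (Uh : Scheme.{u}) ⟶ X₀)
    (hxh : xh ≫ ι ≫ bZ κ = Uh.ι ≫ Spec.map (CommRingCat.ofHom (algebraMap A B)))
    (P : Fin b → Piece fs xh) (hPcov : ∀ q : PrimeSpectrum B, q ∈ Uh → ∃ p, (P p).h ∉ q.asIdeal)
    (M : ℕ) (y : fs.sys.Var b → B)
    (hy : ∀ p j, algebraMap B (Localization.Away (P p).h) (y (.inl (p, j))) =
      algebraMap B (Localization.Away (P p).h) (P p).h ^ M * (P p).w j)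
    (n : ℕ) (ev : B →ₐ[A] A ⧸ J ^ n) (hev : ∀ z, Ideal.Quotient.mk (J ^ n) (x z) = ev (y z))
    (hle : (Spec.map (CommRingCat.ofHom (Ideal.Quotient.mk (J ^ n)))) ⁻¹ᵁ U ≤
      (Spec.map (CommRingCat.ofHom ev.toRingHom)) ⁻¹ᵁ Uh) :
    ∃ xs : (U : Scheme.{u}) ⟶ X₀, xs ≫ ι ≫ κ ≫ CohB1.ProjSpaceOver.toBase N (U : Scheme.{u}) = 𝟙 _ ∧
      ((Spec.map (CommRingCat.ofHom (Ideal.Quotient.mk (J ^ n)))) ∣_ U) ≫ xs =
        (Spec.map (CommRingCat.ofHom ev.toRingHom)).resLE _ _ hle ≫ xh := by
  let σ := Fin L × Fin b × Fin fs.cG × Fin (N + 1)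
  let S : σ → A := pieceElem fs x
  have hfac : ∀ z : σ, IsUnit (algebraMap A (Localization.Away (S z)) (k z.1)) ∧
      IsUnit (algebraMap A (Localization.Away (S z)) (vec fs x z.2.1 z.2.2.2)) := fun z => by
    have hs : IsUnit (algebraMap A (Localization.Away (S z))
        (k z.1 * aeval (vec fs x z.2.1) (fs.G z.2.2.1) * vec fs x z.2.1 z.2.2.2)) :=
      IsLocalization.Away.algebraMap_isUnit (S z)
    rw [map_mul, map_mul, IsUnit.mul_iff, IsUnit.mul_iff] at hs
    exact ⟨hs.1.1, hs.2⟩
  choose Pz hPb hPc using fun z : σ => exists_pieceHom fs x hx z (hfac z).2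
  have hrz : ∀ z : σ, Set.range (Spec.map (CommRingCat.ofHom (algebraMap A (Localization.Away (S z))))) ⊆
      Set.range U.ι := by
    rintro z _ ⟨q, rfl⟩
    rw [Scheme.Opens.range_ι]
    exact hk z.1 fun hq => q.isPrime.ne_top (Ideal.eq_top_of_isUnit_mem _ hq (hfac z).1)
  let lz := fun z : σ => IsOpenImmersion.lift U.ι _ (hrz z)
  have hlz : ∀ z, lz z ≫ U.ι = Spec.map (CommRingCat.ofHom (algebraMap A (Localization.Away (S z)))) :=
    fun z => IsOpenImmersion.lift_fac _ _ _
  have hlzo : ∀ z, IsOpenImmersion (lz z) := fun z => by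
    haveI : IsOpenImmersion (Spec.map (CommRingCat.ofHom (algebraMap A (Localization.Away (S z))))) :=
      IsOpenImmersion.of_isLocalization (S z)
    haveI : IsOpenImmersion (lz z ≫ U.ι) := by rw [hlz]; infer_instance
    exact IsOpenImmersion.of_comp (lz z) U.ι
  have hcovU : ∀ q : (U : Scheme.{u}), ∃ z y', lz z y' = q := fun q => by
    obtain ⟨l, hl⟩ := hcov (U.ι q) q.2
    obtain ⟨gp, hgp⟩ : ∃ gp : Fin fs.cG × Fin b, aeval (vec fs x gp.2) (fs.G gp.1) ∉ (U.ι q).asIdeal := by
      by_contra hall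
      push Not at hall
      refine hl ((U.ι q).isPrime.mem_of_pow_mem m ?_)
      have := hx.cover l
      rw [show (algebraMap A A) (k l) = k l from rfl] at this
      rw [this]
      exact Ideal.sum_mem _ fun gp _ => Ideal.mul_mem_left _ _ (hall gp)
    obtain ⟨i, hi⟩ : ∃ i, vec fs x gp.2 i ∉ (U.ι q).asIdeal := by
      by_contra hall
      push Not at hall
      exact hgp (Ideal.span_le.mpr (Set.range_subset_iff.mpr hall) (aeval_mem_span _ (fs.hG gp.1) (fs.hdG gp.1)))
    refine ⟨(l, gp.2, gp.1, i), ?_⟩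
    have hS : S (l, gp.2, gp.1, i) ∉ (U.ι q).asIdeal := fun h =>
      ((U.ι q).isPrime.mem_or_mem h).elim (fun h' => ((U.ι q).isPrime.mem_or_mem h').elim hl hgp) hi
    obtain ⟨q', hq'⟩ : (U.ι q : PrimeSpectrum A) ∈
        Set.range (PrimeSpectrum.comap (algebraMap A (Localization.Away (S (l, gp.2, gp.1, i))))) := by
      rw [PrimeSpectrum.localization_away_comap_range (Localization.Away (S (l, gp.2, gp.1, i)))
        (S (l, gp.2, gp.1, i))]
      exact hS
    refine ⟨q', U.ι.isOpenEmbedding.injective ?_⟩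
    exact (congrArg (fun g : Spec (CommRingCat.of (Localization.Away (S (l, gp.2, gp.1, i)))) ⟶
      Spec (CommRingCat.of A) => g q') (hlz (l, gp.2, gp.1, i))).trans hq'
  let 𝒰 : (U : Scheme.{u}).OpenCover :=
    Scheme.Cover.mkOfCovers σ (fun z => Spec (CommRingCat.of (Localization.Away (S z)))) lz hcovU hlzo
  have hcompat : ∀ z z' : σ, pullback.fst (lz z) (lz z') ≫ Pz z = pullback.snd (lz z) (lz z') ≫ Pz z' := by
    intro z z'
    haveI := hlzo z
    haveI := hlzo z'
    let T : Type u := Localization.Away (S z * S z')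
    have hu := IsLocalization.Away.algebraMap_isUnit (S := T) (S z * S z')
    rw [map_mul, IsUnit.mul_iff] at hu
    let β : Localization.Away (S z) →+* T := IsLocalization.Away.lift (S z) hu.1
    let β' : Localization.Away (S z') →+* T := IsLocalization.Away.lift (S z') hu.2
    have hβ : β.comp (algebraMap A _) = algebraMap A T := IsLocalization.Away.lift_comp _ _
    have hβ' : β'.comp (algebraMap A _) = algebraMap A T := IsLocalization.Away.lift_comp _ _
    haveI : IsOpenImmersion (Spec.map (CommRingCat.ofHom (algebraMap A T))) :=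
      IsOpenImmersion.of_isLocalization (S z * S z')
    have hr : Set.range ((pullback.fst (lz z) (lz z') ≫ lz z) ≫ U.ι) ⊆
        Set.range (Spec.map (CommRingCat.ofHom (algebraMap A T))) := by
      rintro _ ⟨q, rfl⟩
      show _ ∈ Set.range (PrimeSpectrum.comap (algebraMap A T))
      rw [PrimeSpectrum.localization_away_comap_range T (S z * S z')]
      intro hmem
      rcases (Ideal.IsPrime.mem_or_mem (PrimeSpectrum.isPrime _) hmem) with h | h
      · rw [Category.assoc, hlz, Scheme.Hom.comp_apply] at h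
        exact (pullback.fst (lz z) (lz z') q).isPrime.ne_top
          (Ideal.eq_top_of_isUnit_mem _ h (IsLocalization.Away.algebraMap_isUnit (S z)))
      · rw [pullback.condition, Category.assoc, hlz, Scheme.Hom.comp_apply] at h
        exact (pullback.snd (lz z) (lz z') q).isPrime.ne_top
          (Ideal.eq_top_of_isUnit_mem _ h (IsLocalization.Away.algebraMap_isUnit (S z')))
    let Lm := IsOpenImmersion.lift (Spec.map (CommRingCat.ofHom (algebraMap A T))) _ hr
    have hLm := IsOpenImmersion.lift_fac (Spec.map (CommRingCat.ofHom (algebraMap A T))) _ hr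
    have h1 : pullback.fst (lz z) (lz z') = Lm ≫ Spec.map (CommRingCat.ofHom β) := by
      rw [← cancel_mono (lz z), ← cancel_mono U.ι, Category.assoc Lm, Category.assoc Lm, Category.assoc _ (lz z) U.ι,
        Category.assoc _ (lz z) U.ι, hlz, ← Spec.map_comp, ← CommRingCat.ofHom_comp, hβ, hLm, Category.assoc, hlz]
    have h2 : pullback.snd (lz z) (lz z') = Lm ≫ Spec.map (CommRingCat.ofHom β') := by
      rw [← cancel_mono (lz z'), ← cancel_mono U.ι, Category.assoc Lm, Category.assoc Lm, Category.assoc _ (lz z') U.ι,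
        Category.assoc _ (lz z') U.ι, hlz, ← Spec.map_comp, ← CommRingCat.ofHom_comp, hβ', hLm, pullback.condition,
        Category.assoc, hlz]
    rw [h1, h2, Category.assoc, Category.assoc]
    refine congrArg (Lm ≫ ·) (point_ext (κ := κ) (ι := ι) _ _ ?_ ?_)
    · rw [Category.assoc, Category.assoc, hPb, hPb, ← Spec.map_comp, ← Spec.map_comp, ← CommRingCat.ofHom_comp,
        ← CommRingCat.ofHom_comp, hβ, hβ']
    · rw [Category.assoc, Category.assoc, hPc, hPc, comp_ptR, comp_ptR]
      refine ptR_eq_of_minor _ _ fun a a' => ?_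
      have hk1 : IsUnit (algebraMap A T (k z.1)) := by
        rw [← hβ, RingHom.comp_apply]; exact (hfac z).1.map β
      have h3 := hx.minor z.1 z.2.1 z'.2.1 a a'
      have h4 := congrArg (algebraMap A T) h3
      rw [map_mul, map_pow, map_zero] at h4
      have h5 := (hk1.pow m).mul_right_eq_zero.mp h4
      rw [map_sub, map_mul, map_mul, sub_eq_zero] at h5
      show β (algebraMap A _ _) * β' (algebraMap A _ _) = β (algebraMap A _ _) * β' (algebraMap A _ _)
      simp only [← RingHom.comp_apply, hβ, hβ']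
      exact h5
  have hglue : ∀ z : σ, lz z ≫ 𝒰.glueMorphisms Pz hcompat = Pz z := 𝒰.ι_glueMorphisms Pz hcompat
  refine ⟨𝒰.glueMorphisms Pz hcompat, ?_, ?_⟩
  · refine 𝒰.hom_ext _ _ fun (z : σ) => ?_
    show lz z ≫ _ = lz z ≫ _
    rw [reassoc_of% hglue z, Category.comp_id, ← cancel_mono U.ι]
    show (Pz z ≫ ι ≫ κ ≫ CohB1.ProjSpaceOver.toBase N (U : Scheme.{u})) ≫ U.ι = lz z ≫ U.ι
    rw [hlz, ← hPb z]
    simp only [Category.assoc]
  · let W := (Spec.map (CommRingCat.ofHom (Ideal.Quotient.mk (J ^ n)))) ⁻¹ᵁ U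
    let el : Fin L × Fin b → A ⧸ J ^ n := fun lp =>
      Ideal.Quotient.mk (J ^ n) (S (lp.1, lp.2, (P lp.2).g, (P lp.2).i)) * ev (P lp.2).h
    have hel : ∀ lp, IsUnit (algebraMap (A ⧸ J ^ n) (Localization.Away (el lp))
          (Ideal.Quotient.mk (J ^ n) (S (lp.1, lp.2, (P lp.2).g, (P lp.2).i)))) ∧
        IsUnit (algebraMap (A ⧸ J ^ n) (Localization.Away (el lp)) (ev (P lp.2).h)) := fun lp => by
      have hs := IsLocalization.Away.algebraMap_isUnit (S := Localization.Away (el lp)) (el lp)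
      simpa only [el, map_mul, IsUnit.mul_iff] using hs
    have hrW : ∀ lp, Set.range (Spec.map (CommRingCat.ofHom
        (algebraMap (A ⧸ J ^ n) (Localization.Away (el lp))))) ⊆ Set.range W.ι := by
      rintro lp _ ⟨q, rfl⟩
      rw [Scheme.Opens.range_ι]
      refine hk lp.1 fun hq => q.isPrime.ne_top (Ideal.eq_top_of_isUnit_mem _ hq ?_)
      have h := (hel lp).1
      simp only [S, pieceElem, map_mul, IsUnit.mul_iff] at h
      exact h.1.1
    let lw := fun lp => IsOpenImmersion.lift W.ι _ (hrW lp)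
    have hlw : ∀ lp, lw lp ≫ W.ι =
        Spec.map (CommRingCat.ofHom (algebraMap (A ⧸ J ^ n) (Localization.Away (el lp)))) :=
      fun lp => IsOpenImmersion.lift_fac _ _ _
    have hlwo : ∀ lp, IsOpenImmersion (lw lp) := fun lp => by
      haveI : IsOpenImmersion (Spec.map (CommRingCat.ofHom (algebraMap (A ⧸ J ^ n) (Localization.Away (el lp))))) :=
        IsOpenImmersion.of_isLocalization (el lp)
      haveI : IsOpenImmersion (lw lp ≫ W.ι) := by rw [hlw]; infer_instance
      exact IsOpenImmersion.of_comp (lw lp) W.ι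
    have hcovW : ∀ q : (W : Scheme.{u}), ∃ lp y', lw lp y' = q := fun q => by
      obtain ⟨l, hl⟩ := hcov (Spec.map (CommRingCat.ofHom (Ideal.Quotient.mk (J ^ n))) (W.ι q)) q.2
      obtain ⟨p, hp⟩ := hPcov (Spec.map (CommRingCat.ofHom ev.toRingHom) (W.ι q)) (hle q.2)
      refine ⟨(l, p), ?_⟩
      have hV : ∀ j, algebraMap B (Localization.Away (P p).h) (y (.inl (p, j))) =
          algebraMap B (Localization.Away (P p).h) (P p).h ^ M * (P p).w j := hy p
      have hGu : IsUnit (algebraMap B (Localization.Away (P p).h)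
          (aeval (fun j => y (.inl (p, j))) (fs.G (P p).g))) := by
        rw [← aeval_algebraMap_apply,
          show (algebraMap B (Localization.Away (P p).h) ∘ fun j => y (.inl (p, j))) =
            fun j => algebraMap B (Localization.Away (P p).h) (P p).h ^ M * (P p).w j from funext hV,
          aeval_mul_left (P p).w (algebraMap B (Localization.Away (P p).h) (P p).h ^ M) (fs.hG (P p).g)]
        exact (((IsLocalization.Away.algebraMap_isUnit (P p).h).pow _).pow _).mul (P p).unit_G
      have hVu : IsUnit (algebraMap B (Localization.Away (P p).h) (y (.inl (p, (P p).i)))) := by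
        rw [hV, (P p).one, mul_one]
        exact (IsLocalization.Away.algebraMap_isUnit (P p).h).pow _
      have h1 : Ideal.Quotient.mk (J ^ n) (aeval (vec fs x p) (fs.G (P p).g)) =
          ev (aeval (fun j => y (.inl (p, j))) (fs.G (P p).g)) :=
        (comp_aeval_apply (Ideal.Quotient.mkₐ A (J ^ n)) (f := vec fs x p) _).trans
          ((congrArg (fun f => aeval (R := A) f (fs.G (P p).g)) (funext fun j => hev (.inl (p, j)))).trans
            (comp_aeval_apply ev (f := fun j => y (.inl (p, j))) _).symm)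
      have hel' : el (l, p) ∉ (W.ι q).asIdeal := fun hmem => by
        rcases (W.ι q).isPrime.mem_or_mem hmem with h | h
        · simp only [S, pieceElem, map_mul] at h
          rcases (W.ι q).isPrime.mem_or_mem h with h' | h'
          · rcases (W.ι q).isPrime.mem_or_mem h' with h'' | h''
            · exact hl h''
            · rw [h1] at h''
              exact mem_of_unit hGu (Spec.map (CommRingCat.ofHom ev.toRingHom) (W.ι q)) hp h''
          · rw [hev (.inl (p, (P p).i))] at h'
            exact mem_of_unit hVu (Spec.map (CommRingCat.ofHom ev.toRingHom) (W.ι q)) hp h'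
        · exact hp h
      obtain ⟨q', hq'⟩ : (W.ι q : PrimeSpectrum (A ⧸ J ^ n)) ∈
          Set.range (PrimeSpectrum.comap (algebraMap (A ⧸ J ^ n) (Localization.Away (el (l, p))))) := by
        rw [PrimeSpectrum.localization_away_comap_range (Localization.Away (el (l, p))) (el (l, p))]
        exact hel'
      refine ⟨q', W.ι.isOpenEmbedding.injective ?_⟩
      exact (congrArg (fun g : Spec (CommRingCat.of (Localization.Away (el (l, p)))) ⟶
        Spec (CommRingCat.of (A ⧸ J ^ n)) => g q') (hlw (l, p))).trans hq'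
    let 𝒲 : (W : Scheme.{u}).OpenCover :=
      Scheme.Cover.mkOfCovers (Fin L × Fin b) (fun lp => Spec (CommRingCat.of (Localization.Away (el lp)))) lw
        hcovW hlwo
    refine 𝒲.hom_ext _ _ fun (lp : Fin L × Fin b) => ?_
    show lw lp ≫ _ = lw lp ≫ _
    let z : σ := (lp.1, lp.2, (P lp.2).g, (P lp.2).i)
    let T : Type u := Localization.Away (el lp)
    let π : A →+* T := (algebraMap (A ⧸ J ^ n) T).comp (Ideal.Quotient.mk (J ^ n))
    let ε₀ : B →+* T := (algebraMap (A ⧸ J ^ n) T).comp ev.toRingHom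
    let β : Localization.Away (S z) →+* T := IsLocalization.Away.lift (g := π) (S z) (hel lp).1
    let ε : Localization.Away (P lp.2).h →+* T := IsLocalization.Away.lift (g := ε₀) (P lp.2).h (hel lp).2
    have hβ : β.comp (algebraMap A _) = π := IsLocalization.Away.lift_comp _ _
    have hε : ε.comp (algebraMap B _) = ε₀ := IsLocalization.Away.lift_comp _ _
    have h1 : lw lp ≫ ((Spec.map (CommRingCat.ofHom (Ideal.Quotient.mk (J ^ n)))) ∣_ U) =
        Spec.map (CommRingCat.ofHom β) ≫ lz z := by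
      rw [← cancel_mono U.ι, Category.assoc, Category.assoc, morphismRestrict_ι, ← Category.assoc, hlw, hlz,
        ← Spec.map_comp, ← Spec.map_comp, ← CommRingCat.ofHom_comp, ← CommRingCat.ofHom_comp, hβ]
    have h2 : lw lp ≫ (Spec.map (CommRingCat.ofHom ev.toRingHom)).resLE Uh W hle =
        Spec.map (CommRingCat.ofHom ε) ≫ (P lp.2).lift := by
      rw [← cancel_mono Uh.ι, Category.assoc, Category.assoc, Scheme.Hom.resLE_comp_ι, ← Category.assoc, hlw,
        (P lp.2).lift_ι, ← Spec.map_comp, ← Spec.map_comp, ← CommRingCat.ofHom_comp, ← CommRingCat.ofHom_comp, hε]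
    have h3 : lz z ≫ 𝒰.glueMorphisms Pz hcompat = Pz z := hglue z
    rw [reassoc_of% h1, h3, reassoc_of% h2]
    refine point_ext (κ := κ) (ι := ι) _ _ ?_ ?_
    · simp only [Category.assoc]
      rw [hPb, hxh, reassoc_of% (P lp.2).lift_ι, ← Spec.map_comp, ← Spec.map_comp, ← Spec.map_comp,
        ← CommRingCat.ofHom_comp, ← CommRingCat.ofHom_comp, ← CommRingCat.ofHom_comp, hβ, ← RingHom.comp_assoc, hε,
        RingHom.comp_assoc, AlgHom.toRingHom_eq_coe, AlgHom.comp_algebraMap]
    · simp only [Category.assoc]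
      rw [hPc, (P lp.2).coord, comp_ptR, comp_ptR]
      have hsc : (β ∘ (algebraMap A (Localization.Away (S z)) ∘ vec fs x z.2.1)) =
          fun j => ε (algebraMap B _ (P lp.2).h) ^ M * ε ((P lp.2).w j) := by
        funext j
        show β (algebraMap A _ (x (.inl (lp.2, j)))) = _
        rw [← map_pow, ← map_mul, ← hy, ← RingHom.comp_apply, hβ, ← RingHom.comp_apply, hε]
        exact congrArg (algebraMap (A ⧸ J ^ n) T) (hev _)
      have hwu : IsUnit (ε ((P lp.2).w (P lp.2).i)) := by rw [(P lp.2).one, map_one]; exact isUnit_one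
      have huh : IsUnit (ε (algebraMap B _ (P lp.2).h) ^ M) :=
        (((IsLocalization.Away.algebraMap_isUnit (P lp.2).h)).map ε).pow M
      rw [ptR_congr hsc _ _ (huh.mul hwu)]
      exact ptR_scale (ε ∘ (P lp.2).w) _ huh _ hwu _

end

end Groth.Agent.Elkik88
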