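import Groth.Agent.Elkik88.System
import Mathlib

/-!
# Homogeneous coordinates of a point with values in an open of an affine scheme
-/

set_option autoImplicit false

universe u

open CategoryTheory CategoryTheory.Limits AlgebraicGeometry MvPolynomial

namespace Groth.Agent.Elkik88

open Groth.Agent.Chow

noncomputable section

variable {N L : ℕ} {A : Type u} [CommRing A]
variable {U : (Spec (CommRingCat.of A)).Opens} {Z X₀ : Scheme.{u}}
  (κ : Z ⟶ CohB1.ProjSpaceOver N (U : Scheme.{u})) (ι : X₀ ⟶ Z)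
  (k : Fin L → A) (c : ∀ l i, Chart κ (k l) i)

/-- Finitely many forms cutting out the subscheme. -/
structure Forms where
  a : ℕ
  cG : ℕ
  F : Fin a → MvPolynomial (Fin (N + 1)) A
  dF : Fin a → ℕ
  hF : ∀ j, (F j).IsHomogeneous (dF j)
  G : Fin cG → MvPolynomial (Fin (N + 1)) A
  dG : Fin cG → ℕ
  hG : ∀ j, (G j).IsHomogeneous (dG j)
  hdG : ∀ j, 0 < dG j
  F_mem : ∀ j, F j ∈ vanSet κ k c
  G_mem : ∀ j, G j ∈ openSet κ ι k c
  F_span : ∀ p ∈ vanSet κ k c, p ∈ Ideal.span (Set.range F)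
  G_span : ∀ p ∈ openSet κ ι k c, p ∈ Ideal.span (Set.range G)

theorem exists_forms [IsNoetherianRing A] : Nonempty (Forms κ ι k c) := by
  obtain ⟨a, F, hF, hFs⟩ := exists_fin_span (vanSet κ k c)
  obtain ⟨cG, G, hG, hGs⟩ := exists_fin_span (openSet κ ι k c)
  choose dF hdF using fun j => (hF j).1
  choose dG hdG using fun j => (hG j).1
  exact ⟨⟨a, cG, F, dF, hdF, G, dG, fun j => (hdG j).2, fun j => (hdG j).1, hF, hG, hFs, hGs⟩⟩

variable {κ ι k c}

/-- The system of equations. -/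
abbrev Forms.sys (fs : Forms κ ι k c) : Sys A :=
  ⟨N, L, fs.a, fs.cG, k, fs.F, fs.dF, fs.hF, fs.G, fs.dG, fs.hG, fs.hdG⟩

theorem Forms.aeval_eq_zero (fs : Forms κ ι k c) {T : Type u} [CommRing T] [Algebra A T]
    {w : Fin (N + 1) → T} (h : ∀ j, aeval w (fs.F j) = 0) : ∀ F ∈ vanSet κ k c, aeval w F = 0 :=
  fun F hF => (Ideal.span_le.mpr (Set.range_subset_iff.mpr h) :
    Ideal.span (Set.range fs.F) ≤ RingHom.ker (aeval (R := A) w)) (fs.F_span F hF)

theorem Forms.lifts [IsOpenImmersion ι] (fs : Forms κ ι k c) {J : Ideal A}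
    (hsm : Smooth ((ι ≫ κ ≫ CohB1.ProjSpaceOver.toBase N (U : Scheme.{u})) ∣_
      (U.ι ⁻¹ᵁ ⟨(PrimeSpectrum.zeroLocus (J : Set A))ᶜ, (PrimeSpectrum.isClosed_zeroLocus (J : Set A)).isOpen_compl⟩)))
    {t : A} (ht : t ∈ J) : fs.sys.Lifts t := by
  intro i l g T _ _ I hI wb hwb
  obtain ⟨φb, hφb⟩ := exists_chart_hom l i wb hwb.one hwb.unit_k (fs.aeval_eq_zero hwb.zero_F)
  have hv : (fun j => φb ((c l i).v j)) = wb := funext hφb
  have hG : IsUnit (φb (aeval (c l i).v (fs.G g))) := by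
    rw [comp_aeval_apply, hv]; exact hwb.unit_G
  obtain ⟨ψ, hψ⟩ := exists_lift_good hsm ht l i (fs.G g) (fs.G_mem g) I hI φb hwb.unit_t hG
  refine ⟨fun j => ψ ((c l i).v j), ⟨?_, ?_, ?_, ?_, fun a => ?_⟩, fun j => (hψ _).trans (hφb j)⟩
  · show ψ ((c l i).v i) = 1
    rw [(c l i).one, map_one]
  · exact isUnit_of_mk hI hwb.unit_t
  · exact isUnit_of_mk hI hwb.unit_k
  · show IsUnit (aeval (fun j => ψ ((c l i).v j)) (fs.G g))
    rw [← comp_aeval_apply]
    exact isUnit_of_mk hI (by rw [hψ]; exact hG)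
  · show aeval (fun j => ψ ((c l i).v j)) (fs.F a) = 0
    rw [← comp_aeval_apply, (fs.F_mem a).2 l i, map_zero]

variable {B : Type u} [CommRing B] [Algebra A B]

/-- A piece of a point, inside one chart. -/
structure Piece (fs : Forms κ ι k c) {Uh : (Spec (CommRingCat.of B)).Opens} (xh : (Uh : Scheme.{u}) ⟶ X₀) where
  h : B
  i : Fin (N + 1)
  g : Fin fs.cG
  w : Fin (N + 1) → Localization.Away h
  one : w i = 1
  unit_G : IsUnit (aeval w (fs.G g))
  van : ∀ a, aeval w (fs.F a) = 0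
  lift : Spec (CommRingCat.of (Localization.Away h)) ⟶ (Uh : Scheme.{u})
  lift_ι : lift ≫ Uh.ι = Spec.map (CommRingCat.ofHom (algebraMap B (Localization.Away h)))
  coord : lift ≫ xh ≫ ι ≫ κ ≫ toZ (U : Scheme.{u}) N = ptR w i (one ▸ isUnit_one)

theorem exists_piece [IsOpenImmersion ι] (fs : Forms κ ι k c)
    (hcov : ∀ q : PrimeSpectrum A, q ∈ U → ∃ l, k l ∉ q.asIdeal)
    {Uh : (Spec (CommRingCat.of B)).Opens} (xh : (Uh : Scheme.{u}) ⟶ X₀)
    (hxh : xh ≫ ι ≫ bZ κ = Uh.ι ≫ Spec.map (CommRingCat.ofHom (algebraMap A B)))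
    (q : (Uh : Scheme.{u})) : ∃ P : Piece fs xh, P.h ∉ (Uh.ι q).asIdeal := by
  obtain ⟨l, hl⟩ := hcov (bZ κ ((xh ≫ ι) q)) ((κ ≫ CohB1.ProjSpaceOver.toBase N (U : Scheme.{u})) ((xh ≫ ι) q)).2
  obtain ⟨i, hi⟩ := exists_mem_chart Zu.{u} (k := N) (toZ (U : Scheme.{u}) N (κ ((xh ≫ ι) q)))
  obtain ⟨y, hy⟩ := ((c l i).mem_range _).mpr ⟨hi, hl⟩
  haveI := (c l i).openImm
  obtain ⟨G₀, hG₀, hG₀y⟩ := exists_openSet (ι := ι) (c := c) l i y (hy ▸ ⟨xh q, rfl⟩)
  obtain ⟨g, hg⟩ : ∃ g, aeval (c l i).v (fs.G g) ∉ y.asIdeal := by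
    by_contra hall
    push Not at hall
    exact hG₀y ((Ideal.span_le.mpr (Set.range_subset_iff.mpr hall) :
      Ideal.span (Set.range fs.G) ≤ y.asIdeal.comap (aeval (R := A) (c l i).v)) (fs.G_span G₀ hG₀))
  let O : Set (Spec (CommRingCat.of B)) :=
    Uh.ι '' ((xh ≫ ι) ⁻¹' ((c l i).e '' (PrimeSpectrum.basicOpen (aeval (c l i).v (fs.G g))).carrier))
  have hO : IsOpen O := Uh.ι.isOpenEmbedding.isOpenMap _
    (((c l i).e.isOpenEmbedding.isOpenMap _ PrimeSpectrum.isOpen_basicOpen).preimage (xh ≫ ι).continuous)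
  obtain ⟨_, ⟨h, rfl⟩, hqh, hsub⟩ := PrimeSpectrum.isTopologicalBasis_basic_opens.exists_subset_of_mem_open
    (a := Uh.ι q) (u := O) ⟨q, ⟨y, hg, hy⟩, rfl⟩ hO
  let lh : Spec (CommRingCat.of (Localization.Away h)) ⟶ Spec (CommRingCat.of B) :=
    Spec.map (CommRingCat.ofHom (algebraMap B (Localization.Away h)))
  have hmem : ∀ x, lh x ∈ O := fun x => hsub (show h ∉ x.asIdeal.comap (algebraMap B (Localization.Away h))
    from fun hh => x.isPrime.ne_top (Ideal.eq_top_of_isUnit_mem _ hh (IsLocalization.Away.algebraMap_isUnit h)))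
  have hr : Set.range lh ⊆ Set.range Uh.ι := by
    rintro _ ⟨x, rfl⟩
    obtain ⟨z, -, hz⟩ := hmem x
    exact ⟨z, hz⟩
  let lift := IsOpenImmersion.lift Uh.ι lh hr
  have hlift : lift ≫ Uh.ι = lh := IsOpenImmersion.lift_fac _ _ _
  have hz : ∀ x, (lift ≫ xh ≫ ι) x ∈ (c l i).e '' (PrimeSpectrum.basicOpen (aeval (c l i).v (fs.G g))).carrier :=
    fun x => by
      obtain ⟨z, hz, hzx⟩ := hmem x
      have h1 : z = lift x := Uh.ι.isOpenEmbedding.injective (hzx.trans (show Uh.ι (lift x) = lh x by rw [← Scheme.Hom.comp_apply, hlift]).symm)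
      rw [h1] at hz
      exact hz
  have hr2 : Set.range (lift ≫ xh ≫ ι) ⊆ Set.range (c l i).e := by
    rintro _ ⟨x, rfl⟩
    exact Set.image_subset_range _ _ (hz x)
  obtain ⟨α, hα⟩ := Spec.map_surjective (IsOpenImmersion.lift (c l i).e (lift ≫ xh ≫ ι) hr2)
  have hαe : Spec.map α ≫ (c l i).e = lift ≫ xh ≫ ι := by rw [hα, IsOpenImmersion.lift_fac]
  have hb : (lift ≫ xh ≫ ι) ≫ bZ κ = Spec.map (CommRingCat.ofHom (algebraMap A (Localization.Away h))) := by
    rw [Category.assoc, Category.assoc, hxh, reassoc_of% hlift, ← Spec.map_comp, ← CommRingCat.ofHom_comp,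
      ← IsScalarTower.algebraMap_eq]
  have hA : CommRingCat.ofHom (algebraMap A (c l i).C) ≫ α = CommRingCat.ofHom (algebraMap A (Localization.Away h)) :=
    Spec.map_injective (by rw [Spec.map_comp, ← (c l i).base, ← Category.assoc, hαe, hb])
  let φ : (c l i).C →ₐ[A] Localization.Away h :=
    ⟨α.hom, fun r => congrArg (fun f : CommRingCat.of A ⟶ CommRingCat.of (Localization.Away h) => f r) hA⟩
  refine ⟨⟨h, i, g, fun j => φ ((c l i).v j), ?_, ?_, fun a => ?_, lift, hlift, ?_⟩, hqh⟩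
  · show φ ((c l i).v i) = 1
    rw [(c l i).one, map_one]
  · rw [← comp_aeval_apply]
    by_contra hn
    obtain ⟨mx, hm, hmem'⟩ := exists_max_ideal_of_mem_nonunits (mem_nonunits_iff.mpr hn)
    let x : Spec (CommRingCat.of (Localization.Away h)) := ⟨mx, hm.isPrime⟩
    obtain ⟨y', hy', hye⟩ := hz x
    have h2 : y' = Spec.map α x := (c l i).e.isOpenEmbedding.injective
      (hye.trans (show (c l i).e (Spec.map α x) = _ by rw [← Scheme.Hom.comp_apply, hαe]).symm)
    rw [h2] at hy'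
    exact hy' hmem'
  · rw [← comp_aeval_apply, (fs.F_mem a).2 l i, map_zero]
  · rw [show lift ≫ xh ≫ ι ≫ κ ≫ toZ (U : Scheme.{u}) N = (lift ≫ xh ≫ ι) ≫ κ ≫ toZ (U : Scheme.{u}) N by
      simp only [Category.assoc], ← hαe]
    exact (c l i).pt_coord φ

theorem exists_pow_mem_span {b : ℕ} (h : Fin b → B) (e : ℕ) {x : B}
    (hx : ∀ P : Ideal B, P.IsPrime → (∀ p, h p ^ e ∈ P) → x ∈ P) :
    x ∈ (Ideal.span (Set.range fun p => h p ^ e)).radical := by
  rw [Ideal.radical_eq_sInf]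
  exact Submodule.mem_sInf.mpr fun P ⟨hle, hP⟩ => hx P hP fun p => hle (Ideal.subset_span ⟨p, rfl⟩)

/-- Coordinates of a point as a solution of the system. -/
theorem exists_hat [IsOpenImmersion ι] (fs : Forms κ ι k c)
    (hcov : ∀ q : PrimeSpectrum A, q ∈ U → ∃ l, k l ∉ q.asIdeal) (hk : ∀ l, PrimeSpectrum.basicOpen (k l) ≤ U)
    {Uh : (Spec (CommRingCat.of B)).Opens}
    (hUh : Uh = Spec.map (CommRingCat.ofHom (algebraMap A B)) ⁻¹ᵁ U) (xh : (Uh : Scheme.{u}) ⟶ X₀)
    (hxh : xh ≫ ι ≫ bZ κ = Uh.ι ≫ Spec.map (CommRingCat.ofHom (algebraMap A B))) :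
    ∃ (b : ℕ) (P : Fin b → Piece fs xh) (m M : ℕ) (y : fs.sys.Var b → B),
      fs.sys.IsSol b m B y ∧ (∀ q : PrimeSpectrum B, q ∈ Uh → ∃ p, (P p).h ∉ q.asIdeal) ∧
      ∀ p j, algebraMap B (Localization.Away (P p).h) (y (.inl (p, j))) =
        algebraMap B (Localization.Away (P p).h) (P p).h ^ M * (P p).w j := by
  classical
  choose Q hQ using exists_piece fs hcov xh hxh
  have hcpt : IsCompact (X := PrimeSpectrum B) Uh.carrier := by
    have : Uh.carrier = ⋃ l ∈ (Finset.univ : Finset (Fin L)),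
        (PrimeSpectrum.basicOpen (algebraMap A B (k l)) : Set (PrimeSpectrum B)) := by
      ext q
      simp only [Set.mem_iUnion, Finset.mem_univ, exists_prop, true_and]
      rw [hUh]
      exact ⟨fun hq => Set.mem_iUnion.mpr ((hcov _ hq).imp fun l hl => Set.mem_iUnion.mpr ⟨trivial, hl⟩), fun hl => by
        obtain ⟨l, hl⟩ := Set.mem_iUnion.mp hl
        obtain ⟨-, hl⟩ := Set.mem_iUnion.mp hl
        exact hk l hl⟩
    rw [this]
    exact Finset.isCompact_biUnion _ fun l _ => PrimeSpectrum.isCompact_basicOpen _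
  obtain ⟨sf, hsf⟩ := hcpt.elim_finite_subcover
    (fun q : (Uh : Scheme.{u}) => (PrimeSpectrum.basicOpen (Q q).h : Set (PrimeSpectrum B)))
    (fun q => PrimeSpectrum.isOpen_basicOpen) fun q hq => Set.mem_iUnion.mpr ⟨⟨q, hq⟩, hQ ⟨q, hq⟩⟩
  let P : Fin sf.card → Piece fs xh := fun p => Q (sf.equivFin.symm p).1
  have hPcov : ∀ q : PrimeSpectrum B, q ∈ Uh → ∃ p, (P p).h ∉ q.asIdeal := fun q hq => by
    obtain ⟨q', hq', hh⟩ := Set.mem_iUnion₂.mp (hsf hq)
    refine ⟨sf.equivFin ⟨q', hq'⟩, ?_⟩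
    rw [show P (sf.equivFin ⟨q', hq'⟩) = Q q' by simp [P]]
    exact hh
  -- numerators
  have hnum : ∀ p, ∃ (n : ℕ) (a : Fin (N + 1) → B), ∀ j,
      algebraMap B (Localization.Away (P p).h) (a j) =
        algebraMap B (Localization.Away (P p).h) (P p).h ^ n * (P p).w j := fun p => by
    obtain ⟨⟨_, n, rfl⟩, hn⟩ := IsLocalization.exist_integer_multiples_of_finite (Submonoid.powers (P p).h) (P p).w
    choose a ha using hn
    exact ⟨n, a, fun j => (ha j).trans (by rw [Algebra.smul_def, map_pow])⟩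
  choose n₀ a₀ ha₀ using hnum
  let E₀ := Finset.univ.sup n₀
  let a : Fin sf.card → Fin (N + 1) → B := fun p j => (P p).h ^ (E₀ - n₀ p) * a₀ p j
  have ha : ∀ p j, algebraMap B (Localization.Away (P p).h) (a p j) =
      algebraMap B (Localization.Away (P p).h) (P p).h ^ E₀ * (P p).w j := fun p j => by
    rw [map_mul, map_pow, ha₀, ← mul_assoc, ← pow_add,
      Nat.sub_add_cancel (Finset.le_sup (Finset.mem_univ p))]
  -- vanishing
  have hmin : ∀ z : Fin sf.card × Fin sf.card × Fin (N + 1) × Fin (N + 1), ∃ e,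
      ((P z.1).h * (P z.2.1).h) ^ e *
        (a z.1 z.2.2.1 * a z.2.1 z.2.2.2 - a z.1 z.2.2.2 * a z.2.1 z.2.2.1) = 0 := by
    rintro ⟨p, r, i, j⟩
    let T : Type u := Localization.Away ((P p).h * (P r).h)
    have hu := IsLocalization.Away.algebraMap_isUnit (S := T) ((P p).h * (P r).h)
    rw [map_mul, IsUnit.mul_iff] at hu
    let αp : Localization.Away (P p).h →+* T := IsLocalization.Away.lift (P p).h hu.1
    let αr : Localization.Away (P r).h →+* T := IsLocalization.Away.lift (P r).h hu.2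
    have hp' : αp.comp (algebraMap B _) = algebraMap B T := IsLocalization.Away.lift_comp _ _
    have hr' : αr.comp (algebraMap B _) = algebraMap B T := IsLocalization.Away.lift_comp _ _
    have hl : Spec.map (CommRingCat.ofHom αp) ≫ (P p).lift = Spec.map (CommRingCat.ofHom αr) ≫ (P r).lift := by
      rw [← cancel_mono Uh.ι, Category.assoc, Category.assoc, (P p).lift_ι, (P r).lift_ι, ← Spec.map_comp,
        ← Spec.map_comp, ← CommRingCat.ofHom_comp, ← CommRingCat.ofHom_comp, hp', hr']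
    have hup : IsUnit ((P p).w (P p).i) := by rw [(P p).one]; exact isUnit_one
    have hur : IsUnit ((P r).w (P r).i) := by rw [(P r).one]; exact isUnit_one
    have hpt : ptR (αp ∘ (P p).w) (P p).i (hup.map αp) = ptR (αr ∘ (P r).w) (P r).i (hur.map αr) := by
      rw [← comp_ptR αp (P p).w (P p).i hup, ← comp_ptR αr (P r).w (P r).i hur]
      rw [← (P p).coord, ← (P r).coord, reassoc_of% hl]
    obtain ⟨-, hprop⟩ := eq_mul_of_ptR_eq _ _ (by show αr ((P r).w (P r).i) = 1; rw [(P r).one, map_one]) hpt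
    have hd : algebraMap B T (a p i * a r j - a p j * a r i) = 0 := by
      have e1 : ∀ j, algebraMap B T (a p j) = αp (algebraMap B _ (P p).h) ^ E₀ * αp ((P p).w j) := fun j => by
        rw [← hp', RingHom.comp_apply, ha, map_mul, map_pow]
      have e2 : ∀ j, algebraMap B T (a r j) = αr (algebraMap B _ (P r).h) ^ E₀ * αr ((P r).w j) := fun j => by
        rw [← hr', RingHom.comp_apply, ha, map_mul, map_pow]
      rw [map_sub, map_mul (algebraMap B T) (a p i), map_mul (algebraMap B T) (a p j), e1, e1, e2, e2, show αp ((P p).w i) = _ from hprop i,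
        show αp ((P p).w j) = _ from hprop j]
      simp only [Function.comp_apply]
      ring
    obtain ⟨⟨_, e, rfl⟩, he⟩ :=
      (IsLocalization.map_eq_zero_iff (Submonoid.powers ((P p).h * (P r).h)) T _).mp hd
    exact ⟨e, he⟩
  choose e₁ he₁ using hmin
  have hvan : ∀ z : Fin sf.card × Fin fs.a, ∃ e, (P z.1).h ^ e * aeval (a z.1) (fs.F z.2) = 0 := by
    rintro ⟨p, f⟩
    have hd : algebraMap B (Localization.Away (P p).h) (aeval (a p) (fs.F f)) = 0 := by
      rw [← aeval_algebraMap_apply]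
      rw [show (algebraMap B (Localization.Away (P p).h) ∘ a p) =
        fun j => algebraMap B (Localization.Away (P p).h) (P p).h ^ E₀ * (P p).w j from funext (ha p),
        aeval_mul_left (P p).w (algebraMap B (Localization.Away (P p).h) (P p).h ^ E₀) (fs.hF f), (P p).van,
        mul_zero]
    obtain ⟨⟨_, e, rfl⟩, he⟩ := (IsLocalization.map_eq_zero_iff (Submonoid.powers (P p).h) _ _).mp hd
    exact ⟨e, he⟩
  choose e₂ he₂ using hvan
  let e := max (Finset.univ.sup e₁) (Finset.univ.sup e₂)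
  let V : Fin sf.card → Fin (N + 1) → B := fun p j => (P p).h ^ e * a p j
  have hVmin : ∀ p r i j, V p i * V r j - V p j * V r i = 0 := fun p r i j => by
    have hle : e₁ (p, r, i, j) ≤ e := (Finset.le_sup (Finset.mem_univ _)).trans (le_max_left _ _)
    show (P p).h ^ e * a p i * ((P r).h ^ e * a r j) - (P p).h ^ e * a p j * ((P r).h ^ e * a r i) = 0
    obtain ⟨d, hd⟩ := Nat.exists_eq_add_of_le hle
    rw [hd]
    linear_combination (((P p).h * (P r).h) ^ d) * he₁ (p, r, i, j)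
  have hVF : ∀ p r f, (P r).h ^ e * aeval (V p) (fs.F f) = 0 := fun p r f => by
    have hle : ∀ q, (P q).h ^ e * aeval (a q) (fs.F f) = 0 := fun q => by
      obtain ⟨d, hd⟩ := Nat.exists_eq_add_of_le
        ((Finset.le_sup (Finset.mem_univ (q, f))).trans (le_max_right (Finset.univ.sup e₁) (Finset.univ.sup e₂)))
      change e = _ at hd
      rw [hd, pow_add, mul_assoc, mul_comm ((P q).h ^ d), ← mul_assoc, he₂ (q, f), zero_mul]
    show (P r).h ^ e * aeval (fun j => (P p).h ^ e * a p j) (fs.F f) = 0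
    rw [aeval_mul_left (a p) ((P p).h ^ e) (fs.hF f)]
    rcases Nat.eq_zero_or_pos (fs.dF f) with h0 | h0
    · rw [h0, pow_zero, one_mul]
      have h1 : ∀ v : Fin (N + 1) → B, aeval v (fs.F f) = aeval (fun _ => (0 : B)) (fs.F f) := fun v => by
        have := aeval_mul_left v (0 : B) (fs.hF f)
        simp only [zero_mul, h0, pow_zero, one_mul] at this
        exact this.symm
      rw [h1, ← h1 (a r)]
      exact hle r
    · obtain ⟨d, hd⟩ := Nat.exists_eq_add_of_le h0
      rw [hd, pow_add, Nat.succ_eq_add_one, zero_add, pow_one]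
      linear_combination ((P r).h ^ e * ((P p).h ^ e) ^ d) * hle p
  have hVw : ∀ p j, algebraMap B (Localization.Away (P p).h) (V p j) =
      algebraMap B (Localization.Away (P p).h) (P p).h ^ (e + E₀) * (P p).w j := fun p j => by
    rw [map_mul, map_pow, ha, pow_add, mul_assoc]
  let GI : Ideal B := Ideal.span (Set.range fun gp : Fin fs.cG × Fin sf.card => aeval (V gp.2) (fs.G gp.1))
  have hm1 : ∀ l, algebraMap A B (k l) ∈ (Ideal.span (Set.range fun p => (P p).h ^ e)).radical := fun l =>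
    exists_pow_mem_span _ e fun Pr hPr hall => by
      by_contra hn
      obtain ⟨p, hp⟩ := hPcov ⟨Pr, hPr⟩ (hUh ▸ hk l hn)
      exact hp (hPr.mem_of_pow_mem e (hall p))
  have hm2 : ∀ l, algebraMap A B (k l) ∈ GI.radical := fun l => by
    rw [Ideal.radical_eq_sInf]
    refine Submodule.mem_sInf.mpr fun Pr ⟨hle, hPr⟩ => ?_
    by_contra hn
    obtain ⟨p, hp⟩ := hPcov ⟨Pr, hPr⟩ (hUh ▸ hk l hn)
    have h1 : aeval (V p) (fs.G (P p).g) ∈ Pr := hle (Ideal.subset_span ⟨((P p).g, p), rfl⟩)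
    have h2 : IsUnit (algebraMap B (Localization.Away (P p).h) (aeval (V p) (fs.G (P p).g))) := by
      rw [← aeval_algebraMap_apply]
      rw [show (algebraMap B (Localization.Away (P p).h) ∘ V p) =
        fun j => algebraMap B (Localization.Away (P p).h) (P p).h ^ (e + E₀) * (P p).w j from funext (hVw p),
        aeval_mul_left (P p).w (algebraMap B (Localization.Away (P p).h) (P p).h ^ (e + E₀)) (fs.hG (P p).g)]
      exact (((IsLocalization.Away.algebraMap_isUnit (P p).h).pow _).pow _).mul (P p).unit_G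
    obtain ⟨q, hq⟩ : (⟨Pr, hPr⟩ : PrimeSpectrum B) ∈
        Set.range (PrimeSpectrum.comap (algebraMap B (Localization.Away (P p).h))) := by
      rw [PrimeSpectrum.localization_away_comap_range (Localization.Away (P p).h) (P p).h]
      exact hp
    refine q.isPrime.ne_top (Ideal.eq_top_of_isUnit_mem _ ?_ h2)
    exact (congrArg (fun z : PrimeSpectrum B => aeval (V p) (fs.G (P p).g) ∈ z.asIdeal) hq).mpr h1
  choose m₁ hm₁ using hm1
  choose m₂ hm₂ using hm2
  let m := max (Finset.univ.sup m₁) (Finset.univ.sup m₂)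
  have hmem₁ : ∀ l, algebraMap A B (k l) ^ m ∈ Ideal.span (Set.range fun p => (P p).h ^ e) := fun l =>
    Ideal.pow_mem_of_pow_mem _ (hm₁ l) ((Finset.le_sup (Finset.mem_univ l)).trans (le_max_left _ _))
  have hmem₂ : ∀ l, algebraMap A B (k l) ^ m ∈ GI := fun l =>
    Ideal.pow_mem_of_pow_mem _ (hm₂ l) ((Finset.le_sup (Finset.mem_univ l)).trans (le_max_right _ _))
  choose cc hcc using fun l => Ideal.mem_span_range_iff_exists_fun.mp (hmem₂ l)
  refine ⟨sf.card, P, m, e + E₀, Sum.elim (fun pj => V pj.1 pj.2) (fun z => cc z.1 (z.2.1, z.2.2)),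
    ⟨fun l p q i j => ?_, fun l f p => ?_, fun l => ?_⟩, hPcov, hVw⟩
  · exact mul_eq_zero_of_right _ (hVmin p q i j)
  · obtain ⟨d, hd⟩ := Ideal.mem_span_range_iff_exists_fun.mp (hmem₁ l)
    show algebraMap A B (k l) ^ m * aeval (fun j => V p j) (fs.F f) = 0
    rw [← hd, Finset.sum_mul]
    exact Finset.sum_eq_zero fun r _ => by rw [mul_assoc, hVF p r f, mul_zero]
  · exact (hcc l).symm

end

end Groth.Agent.Elkik88
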