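import Groth.Agent.Hensel.SmoothLift
import Mathlib

/-!
# Approximation of points along a principal henselian pair (Elkik, Gabber)
-/

set_option autoImplicit false

universe u

namespace Groth.Agent.Elkik88

open MvPolynomial

variable {A : Type u} [CommRing A]

/-- First order Taylor expansion in an algebra. -/
theorem taylor_mem {σ : Type*} [Fintype σ] {C : Type*} [CommRing C] [Algebra A C] (J : Ideal C)
    (a δ : σ → C) (hδ : ∀ k, δ k ∈ J) (p : MvPolynomial σ A) :
    aeval (a + δ) p - aeval a p ∈ J ∧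
      aeval (a + δ) p - aeval a p - ∑ k, aeval a (pderiv k p) * δ k ∈ J ^ 2 := by
  classical
  induction p using MvPolynomial.induction_on with
  | C a => simp
  | add p q hp hq =>
    refine ⟨?_, ?_⟩
    · rw [map_add, map_add, add_sub_add_comm]; exact add_mem hp.1 hq.1
    · convert add_mem hp.2 hq.2 using 1
      simp only [map_add, add_mul, Finset.sum_add_distrib]
      ring
  | mul_X p i hp =>
    refine ⟨?_, ?_⟩
    · rw [map_mul, map_mul, aeval_X, aeval_X, Pi.add_apply,
        show aeval (a + δ) p * (a i + δ i) - aeval a p * a i =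
          (aeval (a + δ) p - aeval a p) * (a i + δ i) + aeval a p * δ i by ring]
      exact add_mem (J.mul_mem_right _ hp.1) (J.mul_mem_left _ (hδ i))
    · have h2 : ∀ k, aeval a (pderiv k (p * X i)) * δ k =
          a i * (aeval a (pderiv k p) * δ k) + (if k = i then aeval a p * δ i else 0) := fun k => by
        rcases eq_or_ne k i with rfl | hk
        · simp; ring
        · simp [hk, pderiv_X_of_ne (Ne.symm hk)]; ring
      simp only [h2, Finset.sum_add_distrib, ← Finset.mul_sum, Finset.sum_ite_eq', Finset.mem_univ,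
        if_true, map_mul, aeval_X, Pi.add_apply]
      have h3 : aeval (a + δ) p * (a i + δ i) - aeval a p * a i -
          (a i * ∑ k, aeval a (pderiv k p) * δ k + aeval a p * δ i) =
          a i * (aeval (a + δ) p - aeval a p - ∑ k, aeval a (pderiv k p) * δ k) +
            (aeval (a + δ) p - aeval a p) * δ i := by ring
      rw [h3, pow_two]
      exact add_mem (Ideal.mul_mem_left _ _ (by rw [← pow_two]; exact hp.2))
        (Ideal.mul_mem_mul hp.1 (hδ i))

/-- An element divisible by a high power of `t` and killed by a power of `t` vanishes. -/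
theorem eq_zero_of_torsion (t : A) {N : ℕ} (hbd : ∀ a : A, (∃ m : ℕ, t ^ m * a = 0) → t ^ N * a = 0)
    {x : A} {s : ℕ} (hs : N ≤ s) (hx : x ∈ Ideal.span {t ^ s}) {m : ℕ} (hm : t ^ m * x = 0) : x = 0 := by
  obtain ⟨a, rfl⟩ := Ideal.mem_span_singleton'.mp hx
  have h := hbd a ⟨m + s, by rw [pow_add, mul_assoc, mul_comm (t ^ s)]; exact hm⟩
  obtain ⟨r, rfl⟩ := Nat.exists_eq_add_of_le hs
  rw [pow_add, ← mul_assoc, mul_comm a, h, zero_mul]

/-- Newton's method along a principal henselian pair. -/
theorem exists_root_of_approx (t : A) [HenselianRing A (Ideal.span {t})] {N : ℕ}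
    (hbd : ∀ a : A, (∃ m : ℕ, t ^ m * a = 0) → t ^ N * a = 0)
    {σ ι : Type} [Fintype σ] [Fintype ι] [DecidableEq ι] (f : ι → MvPolynomial σ A)
    (M : σ → ι → MvPolynomial σ A) (e : ℕ)
    (hid : ∀ i, C (t ^ e) * f i - ∑ j, (∑ k, pderiv k (f i) * M k j) * f j ∈
      Ideal.span (Set.range f) ^ 2)
    (s : ℕ) (hse : e < s) (hsN : N ≤ s) (y₀ : σ → A)
    (hy₀ : ∀ i, aeval y₀ (f i) ∈ Ideal.span {t ^ (s + e + 1)}) :
    ∃ y : σ → A, (∀ i, aeval y (f i) = 0) ∧ ∀ k, y k - y₀ k ∈ Ideal.span {t ^ s} := by
  classical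
  let If := Ideal.span (Set.range f)
  let E : ι → ι → MvPolynomial σ A := fun i j => ∑ k, pderiv k (f i) * M k j
  let K : ι → ι → MvPolynomial σ A := fun i j => (if i = j then C (t ^ e) else 0) - E i j
  have hKf : ∀ i, ∑ j, K i j * f j ∈ If ^ 2 := by
    intro i
    simp only [K, sub_mul, Finset.sum_sub_distrib, ite_mul, zero_mul, Finset.sum_ite_eq,
      Finset.mem_univ, if_true]
    exact hid i
  have hder : ∀ i l, C (t ^ e) * pderiv l (f i) - ∑ j, E i j * pderiv l (f j) ∈ If := by
    intro i l
    have h1 := Hensel.pderiv_mem_of_mem_sq (hid i) l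
    simp only [map_sub, map_sum, pderiv_mul, pderiv_C, zero_mul, zero_add, Finset.sum_add_distrib] at h1
    have h2 : ∑ j, pderiv l (∑ k, pderiv k (f i) * M k j) * f j ∈ If :=
      If.sum_mem fun j _ => If.mul_mem_left _ (Ideal.subset_span (Set.mem_range_self j))
    simp only [map_sum, pderiv_mul, Finset.sum_add_distrib] at h2
    convert add_mem h1 h2 using 1
    simp only [E]
    ring
  have hEE : ∀ i m, C (t ^ e) * E i m - ∑ j, E i j * E j m ∈ If := by
    intro i m
    have h1 : ∑ k, (C (t ^ e) * pderiv k (f i) - ∑ j, E i j * pderiv k (f j)) * M k m ∈ If :=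
      If.sum_mem fun k _ => If.mul_mem_right _ (hder i k)
    simp only [sub_mul, Finset.sum_sub_distrib, Finset.sum_mul, mul_assoc] at h1
    rw [← Finset.mul_sum, Finset.sum_comm] at h1
    simp only [← Finset.mul_sum] at h1
    exact h1
  have hKK : ∀ i m, ∑ j, K i j * K j m - C (t ^ e) * K i m ∈ If := by
    intro i m
    have : ∑ j, K i j * K j m - C (t ^ e) * K i m =
        -(C (t ^ e) * E i m - ∑ j, E i j * E j m) := by
      simp only [K, sub_mul, mul_sub, Finset.sum_sub_distrib, ite_mul, zero_mul, mul_ite, mul_zero,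
        Finset.sum_ite_eq, Finset.sum_ite_eq', Finset.mem_univ, if_true]
      by_cases h : i = m
      · subst h; simp only [if_true]; ring
      · simp only [if_neg h]; ring
    rw [this]
    exact If.neg_mem (hEE i m)
  -- the auxiliary square system
  let ts : MvPolynomial ι A := C (t ^ s)
  let δ : σ → MvPolynomial ι A := fun k => ts * ∑ j, C (aeval y₀ (M k j)) * X j
  let v : σ → MvPolynomial ι A := (fun k => C (y₀ k)) + δ
  let G : ι → MvPolynomial ι A := fun i => aeval v (f i) + ts * ∑ j, aeval v (K i j) * X j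
  have hC : ∀ p : MvPolynomial σ A, aeval (fun k => (C (y₀ k) : MvPolynomial ι A)) p = C (aeval y₀ p) := fun p => by
    rw [← algebraMap_eq, ← aeval_algebraMap_apply]; rfl
  have hδ : ∀ k, δ k ∈ Ideal.span {ts} := fun k =>
    Ideal.mem_span_singleton.mpr (dvd_mul_right _ _)
  have hG : ∀ i, G i - C (t ^ (s + e)) * X i ∈ Ideal.span {(C (t ^ (s + e + 1)) : MvPolynomial ι A)} := by
    intro i
    have hsq : (Ideal.span {ts} : Ideal (MvPolynomial ι A)) ^ 2 ≤ Ideal.span {(C (t ^ (s + e + 1)) : MvPolynomial ι A)} := by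
      rw [Ideal.span_singleton_pow, Ideal.span_singleton_le_span_singleton, ← map_pow, ← pow_mul]
      exact map_dvd C (pow_dvd_pow t (by omega))
    have h1 := hsq (taylor_mem (Ideal.span {ts}) (fun k => C (y₀ k)) δ hδ (f i)).2
    have h2 : ts * ∑ j, (aeval v (K i j) - C (aeval y₀ (K i j))) * X j ∈
        Ideal.span {(C (t ^ (s + e + 1)) : MvPolynomial ι A)} := by
      refine hsq ?_
      rw [pow_two]
      refine Ideal.mul_mem_mul (Ideal.mem_span_singleton_self _) (Ideal.sum_mem _ fun j _ => Ideal.mul_mem_right _ _ ?_)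
      rw [← hC]
      exact (taylor_mem (Ideal.span {ts}) (fun k => C (y₀ k)) δ hδ (K i j)).1
    have h3 : C (aeval y₀ (f i)) ∈ Ideal.span {(C (t ^ (s + e + 1)) : MvPolynomial ι A)} := by
      obtain ⟨b, hb⟩ := Ideal.mem_span_singleton.mp (hy₀ i)
      exact Ideal.mem_span_singleton.mpr ⟨C b, by rw [← map_mul, hb]⟩
    have h4 : ∑ k, aeval (fun k => (C (y₀ k) : MvPolynomial ι A)) (pderiv k (f i)) * δ k +
        ts * ∑ j, C (aeval y₀ (K i j)) * X j = C (t ^ (s + e)) * X i := by
      have e1 : ∑ k, aeval (fun k => (C (y₀ k) : MvPolynomial ι A)) (pderiv k (f i)) * δ k =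
          ts * ∑ j, C (aeval y₀ (E i j)) * X j := by
        simp only [δ, hC, Finset.mul_sum]
        rw [Finset.sum_comm]
        refine Finset.sum_congr rfl fun j _ => ?_
        simp only [E, map_sum, Finset.sum_mul, Finset.mul_sum]
        refine Finset.sum_congr rfl fun k _ => ?_
        rw [map_mul, map_mul]
        ring
      rw [e1, ← mul_add, ← Finset.sum_add_distrib]
      simp only [← add_mul, ← map_add]
      simp only [K, add_sub_cancel, map_sub, apply_ite (aeval y₀), map_zero, aeval_C,
        Algebra.algebraMap_self_apply, apply_ite C, ite_mul, zero_mul, Finset.sum_ite_eq,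
        Finset.mem_univ, if_true]
      rw [pow_add, map_mul, mul_assoc]
    convert add_mem (add_mem h1 h2) h3 using 1
    rw [← h4]
    simp only [G, hC, sub_mul, Finset.sum_sub_distrib, mul_sub, v]
    ring
  have hG' : ∀ i, ∃ P : MvPolynomial ι A, G i = C (t ^ (s + e)) * (X i + C t * P) := fun i => by
    obtain ⟨P, hP⟩ := Ideal.mem_span_singleton.mp (hG i)
    exact ⟨P, by rw [eq_add_of_sub_eq hP, pow_succ, map_mul]; ring⟩
  choose P hP using hG'
  obtain ⟨z, hz, -⟩ := Hensel.exists_root_system (I := Ideal.span {t})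
    (fun i => X i + C t * P i) (fun i => by
      simp only [map_add, map_mul, aeval_X, aeval_C, Pi.zero_apply, zero_add, Algebra.algebraMap_self_apply]
      exact Ideal.mul_mem_right _ _ (Ideal.mem_span_singleton_self t)) (by
      rw [RingHom.map_det]
      have : (Ideal.Quotient.mk (Ideal.span {t})).mapMatrix
          (Matrix.of fun i j => aeval (0 : ι → A) (pderiv i (X j + C t * P j))) = 1 := by
        ext i j
        have ht : Ideal.Quotient.mk (Ideal.span {t}) t = 0 :=
          Ideal.Quotient.eq_zero_iff_mem.mpr (Ideal.mem_span_singleton_self t)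
        simp [pderiv_X, Matrix.one_apply, Pi.single_apply, ht, apply_ite (Ideal.Quotient.mk (Ideal.span {t})), eq_comm]
      rw [this, Matrix.det_one]
      exact isUnit_one)
  let y : σ → A := fun k => y₀ k + t ^ s * ∑ j, aeval y₀ (M k j) * z j
  have hzv : ∀ p : MvPolynomial σ A, aeval z (aeval v p) = aeval y p := fun p => by
    rw [← AlgHom.comp_apply, comp_aeval]
    congr 2
    funext k
    simp [v, δ, ts, y]
  let F : ι → A := fun i => aeval y (f i)
  have hF : ∀ i, F i = -(t ^ s * ∑ j, aeval y (K i j) * z j) := by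
    intro i
    have := congrArg (aeval z) (hP i)
    rw [map_mul, hz i, mul_zero] at this
    rw [← add_eq_zero_iff_eq_neg, ← this]
    simp only [G, F, map_add, map_mul, map_sum, hzv, aeval_X, ts, aeval_C, Algebra.algebraMap_self_apply]
  let 𝔉 : Ideal A := Ideal.span (Set.range F)
  have hIf : If ≤ 𝔉.comap (aeval y) :=
    Ideal.span_le.mpr (Set.range_subset_iff.mpr fun i => Ideal.subset_span ⟨i, rfl⟩)
  have h𝔉s : 𝔉 ≤ Ideal.span {t ^ s} := Ideal.span_le.mpr (Set.range_subset_iff.mpr fun i => by
    rw [SetLike.mem_coe, hF]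
    exact neg_mem (Ideal.mem_span_singleton.mpr (dvd_mul_right _ _)))
  have hsq' : If ^ 2 ≤ (Ideal.span {t ^ s} * 𝔉).comap (aeval y) := by
    rw [pow_two, Ideal.mul_le]
    intro a ha b hb
    rw [Ideal.mem_comap, map_mul]
    exact Ideal.mul_mem_mul (h𝔉s (hIf ha)) (hIf hb)
  have key : ∀ i, t ^ e * F i ∈ Ideal.span {t ^ s} * 𝔉 := by
    intro i
    have h1 : aeval y (∑ j, K i j * f j) ∈ Ideal.span {t ^ s} * 𝔉 := hsq' (hKf i)
    have h2 : t ^ s * ∑ m, aeval y (∑ j, K i j * K j m - C (t ^ e) * K i m) * z m ∈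
        Ideal.span {t ^ s} * 𝔉 :=
      Ideal.mul_mem_mul (Ideal.mem_span_singleton_self _)
        (Ideal.sum_mem _ fun m _ => Ideal.mul_mem_right _ _ (hIf (hKK i m)))
    have h3 : t ^ e * F i = aeval y (∑ j, K i j * f j) +
        t ^ s * ∑ m, aeval y (∑ j, K i j * K j m - C (t ^ e) * K i m) * z m := by
      simp only [map_sum, map_mul, map_sub, aeval_C, Algebra.algebraMap_self_apply]
      rw [show (∑ j, aeval y (K i j) * aeval y (f j)) =
          -(t ^ s * ∑ j, ∑ m, aeval y (K i j) * (aeval y (K j m) * z m)) by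
        rw [Finset.mul_sum, ← Finset.sum_neg_distrib]
        refine Finset.sum_congr rfl fun j _ => ?_
        rw [show aeval y (f j) = _ from hF j, ← Finset.mul_sum]
        ring]
      rw [hF i, Finset.sum_comm]
      simp only [sub_mul, Finset.sum_sub_distrib, Finset.sum_mul, mul_assoc, mul_sub, ← Finset.mul_sum]
      ring
    rw [h3]
    exact add_mem h1 h2
  have hzero : Ideal.span {t ^ e} * 𝔉 = ⊥ := by
    refine Submodule.eq_bot_of_le_smul_of_le_jacobson_bot (Ideal.span {t}) _ ?_ ?_
      (‹HenselianRing A (Ideal.span {t})›.jac)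
    · rw [Ideal.span_mul_span', Set.singleton_mul]
      exact Submodule.fg_span ((Set.finite_range F).image _)
    · rw [smul_eq_mul, ← mul_assoc, Ideal.span_singleton_mul_span_singleton]
      refine Ideal.span_singleton_mul_le_iff.mpr fun x hx => ?_
      have : ∀ x ∈ 𝔉, t ^ e * x ∈ Ideal.span {t ^ s} * 𝔉 := by
        intro x hx
        induction hx using Submodule.span_induction with
        | mem z hz => obtain ⟨i, rfl⟩ := hz; exact key i
        | zero => simp
        | add a b _ _ ha hb => rw [mul_add]; exact add_mem ha hb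
        | smul c a _ ha => rw [smul_eq_mul, mul_left_comm]; exact Ideal.mul_mem_left _ c ha
      refine Ideal.mul_mono_left ?_ (this x hx)
      rw [Ideal.span_singleton_le_span_singleton, ← pow_succ']
      exact pow_dvd_pow t hse
  refine ⟨y, fun i => ?_, fun k => ?_⟩
  · refine eq_zero_of_torsion t hbd hsN (h𝔉s (Ideal.subset_span ⟨i, rfl⟩)) (m := e) ?_
    rw [← Ideal.mem_bot, ← hzero]
    exact Ideal.mul_mem_mul (Ideal.mem_span_singleton_self _) (Ideal.subset_span ⟨i, rfl⟩)
  · simp only [y, add_sub_cancel_left]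
    exact Ideal.mem_span_singleton.mpr (dvd_mul_right _ _)

end Groth.Agent.Elkik88
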