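import Groth.Agent.Elkik88.Newton

/-!
# Points of algebras smooth after inverting `t` lift from `A/t^L` (Elkik, Gabber)
-/

set_option autoImplicit false

universe u

namespace Groth.Agent.Elkik88

open MvPolynomial

variable {A : Type u} [CommRing A] (t : A) {σ : Type}

/-- Clearing denominators in polynomials over `A[1/t]`. -/
theorem exists_clear (q : MvPolynomial σ (Localization.Away t)) :
    ∃ (a : ℕ) (p : MvPolynomial σ A),
      C (algebraMap A (Localization.Away t) (t ^ a)) * q = map (algebraMap A (Localization.Away t)) p := by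
  induction q using MvPolynomial.induction_on with
  | C c =>
    obtain ⟨a, x, hx⟩ := IsLocalization.Away.surj t c
    exact ⟨a, C x, by rw [map_C, ← map_mul, ← hx, map_pow, mul_comm]⟩
  | add q q' hq hq' =>
    obtain ⟨a, p, hp⟩ := hq
    obtain ⟨b, p', hp'⟩ := hq'
    refine ⟨a + b, C (t ^ b) * p + C (t ^ a) * p', ?_⟩
    rw [map_add, map_mul, map_mul, map_C, map_C, ← hp, ← hp', pow_add, map_mul, map_mul]
    ring
  | mul_X q i hq =>
    obtain ⟨a, p, hp⟩ := hq
    exact ⟨a, p * X i, by rw [map_mul, map_X, ← hp, mul_assoc]⟩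

/-- The kernel of `A[X] → A[1/t][X]`. -/
theorem exists_pow_mul_eq_zero (p : MvPolynomial σ A)
    (hp : map (algebraMap A (Localization.Away t)) p = 0) : ∃ a : ℕ, C (t ^ a) * p = 0 := by
  classical
  have h : ∀ m, ∃ a, t ^ a * p.coeff m = 0 := fun m => by
    have := congrArg (coeff m) hp
    rw [coeff_map, coeff_zero, IsLocalization.map_eq_zero_iff (Submonoid.powers t)] at this
    obtain ⟨⟨_, a, rfl⟩, ha⟩ := this
    exact ⟨a, ha⟩
  choose a ha using h
  refine ⟨p.support.sup a, MvPolynomial.ext _ _ fun m => ?_⟩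
  rw [coeff_C_mul, coeff_zero]
  by_cases hm : m ∈ p.support
  · obtain ⟨r, hr⟩ := Nat.exists_eq_add_of_le (Finset.le_sup (f := a) hm)
    rw [hr, pow_add, mul_comm (t ^ a m), mul_assoc, ha, mul_zero]
  · rw [notMem_support_iff.mp hm, mul_zero]

/-- Elements of an extended ideal have multiples in the image of the ideal. -/
theorem exists_clear_of_mem_map (J : Ideal (MvPolynomial σ A)) {q : MvPolynomial σ (Localization.Away t)}
    (hq : q ∈ J.map (map (algebraMap A (Localization.Away t)))) :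
    ∃ a : ℕ, ∃ p ∈ J,
      C (algebraMap A (Localization.Away t) (t ^ a)) * q = map (algebraMap A (Localization.Away t)) p := by
  induction hq using Submodule.span_induction with
  | mem z hz =>
    obtain ⟨p, hp, rfl⟩ := hz
    exact ⟨0, p, hp, by simp⟩
  | zero => exact ⟨0, 0, J.zero_mem, by simp⟩
  | add q q' _ _ hq hq' =>
    obtain ⟨a, p, hp, e⟩ := hq
    obtain ⟨b, p', hp', e'⟩ := hq'
    refine ⟨a + b, C (t ^ b) * p + C (t ^ a) * p',
      add_mem (J.mul_mem_left _ hp) (J.mul_mem_left _ hp'), ?_⟩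
    rw [map_add, map_mul, map_mul, map_C, map_C, ← e, ← e', pow_add, map_mul, map_mul]
    ring
  | smul c q _ hq =>
    obtain ⟨a, p, hp, e⟩ := hq
    obtain ⟨b, c', e'⟩ := exists_clear t c
    refine ⟨b + a, c' * p, J.mul_mem_left _ hp, ?_⟩
    rw [map_mul, ← e, ← e', smul_eq_mul, pow_add, map_mul, map_mul]
    ring

/-- A polynomial in an extended ideal has a multiple in the ideal. -/
theorem exists_pow_mul_mem (J : Ideal (MvPolynomial σ A)) {g : MvPolynomial σ A}
    (hg : map (algebraMap A (Localization.Away t)) g ∈ J.map (map (algebraMap A (Localization.Away t)))) :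
    ∃ a : ℕ, C (t ^ a) * g ∈ J := by
  obtain ⟨a, p, hp, e⟩ := exists_clear_of_mem_map t J hg
  have h0 : map (algebraMap A (Localization.Away t)) (C (t ^ a) * g - p) = 0 := by
    rw [map_sub, map_mul, map_C, e, sub_self]
  obtain ⟨b, hb⟩ := exists_pow_mul_eq_zero t _ h0
  refine ⟨b + a, ?_⟩
  rw [pow_add, map_mul, mul_assoc, show C (t ^ a) * g = (C (t ^ a) * g - p) + p by ring, mul_add, hb,
    zero_add]
  exact J.mul_mem_left _ hp

theorem pow_mul_mem_mono {J : Ideal (MvPolynomial σ A)} {g : MvPolynomial σ A} {a b : ℕ} (hab : a ≤ b)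
    (h : C (t ^ a) * g ∈ J) : C (t ^ b) * g ∈ J := by
  obtain ⟨c, rfl⟩ := Nat.exists_eq_add_of_le hab
  rw [pow_add, map_mul, mul_comm (C (t ^ a)), mul_assoc]
  exact J.mul_mem_left _ h

/-- A first order section of a presentation of a formally smooth algebra. -/
theorem exists_deriv_section {R : Type u} [CommRing R] {T : Type u} [CommRing T] [Algebra R T]
    [Algebra.FormallySmooth R T] {d : ℕ} (π : MvPolynomial (Fin d) R →ₐ[R] T) (hπ : Function.Surjective π) :
    ∃ δ : Fin d → MvPolynomial (Fin d) R, (∀ k, δ k ∈ RingHom.ker π) ∧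
      ∀ p ∈ RingHom.ker π, p + ∑ k, pderiv k p * δ k ∈ RingHom.ker π ^ 2 := by
  let J := RingHom.ker π
  have hle : J ^ 2 ≤ RingHom.ker π := Ideal.pow_le_self two_ne_zero
  let fb : (MvPolynomial (Fin d) R ⧸ J ^ 2) →ₐ[R] T := Ideal.Quotient.liftₐ _ π hle
  have hfb : Function.Surjective fb := fun b => by
    obtain ⟨q, rfl⟩ := hπ b; exact ⟨Ideal.Quotient.mk _ q, rfl⟩
  have hnil : IsNilpotent (RingHom.ker (fb : (MvPolynomial (Fin d) R ⧸ J ^ 2) →+* T)) := by
    refine ⟨2, ?_⟩
    have hk : RingHom.ker (fb : (MvPolynomial (Fin d) R ⧸ J ^ 2) →+* T) ≤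
        J.map (Ideal.Quotient.mk (J ^ 2)) := fun z hz => by
      obtain ⟨q, rfl⟩ := Ideal.Quotient.mk_surjective z
      exact Ideal.mem_map_of_mem _ hz
    rw [Submodule.zero_eq_bot, ← le_bot_iff]
    exact (Ideal.pow_right_mono hk 2).trans (by rw [← Ideal.map_pow, Ideal.map_quotient_self])
  let s : T →ₐ[R] MvPolynomial (Fin d) R ⧸ J ^ 2 :=
    Algebra.FormallySmooth.liftOfSurjective (AlgHom.id R T) fb hfb hnil
  have hs : ∀ b, fb (s b) = b := fun b =>
    Algebra.FormallySmooth.liftOfSurjective_apply (AlgHom.id R T) fb hfb hnil b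
  choose h hh using fun k => Ideal.Quotient.mk_surjective (s (π (X k)))
  have hhX : ∀ k, h k - X k ∈ J := fun k => by
    have h2 := hs (π (X k))
    rw [← hh k] at h2
    rw [RingHom.mem_ker, map_sub, show π (h k) = π (X k) from h2, sub_self]
  have hsh : ∀ q, Ideal.Quotient.mk (J ^ 2) (aeval h q) = s (π q) := by
    have : (Ideal.Quotient.mkₐ R (J ^ 2)).comp (aeval h) = s.comp π :=
      MvPolynomial.algHom_ext fun k => by simp [hh k]
    exact fun q => AlgHom.congr_fun this q
  refine ⟨fun k => h k - X k, hhX, fun p hp => ?_⟩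
  have h1 : aeval h p ∈ J ^ 2 := by
    rw [← Ideal.Quotient.eq_zero_iff_mem, hsh, RingHom.mem_ker.mp hp, map_zero]
  convert sub_mem h1 (Hensel.aeval_sub_taylor_mem J h hhX p).2 using 1
  ring

/-- Equations and the approximation identity for a presentation of an algebra smooth after inverting `t`. -/
theorem exists_equations (B : Type u) [CommRing B] [Algebra A B]
    (hsm : Algebra.Smooth (Localization.Away t)
      (Localization (Algebra.algebraMapSubmonoid B (Submonoid.powers t))))
    {d : ℕ} (π : MvPolynomial (Fin d) A →ₐ[A] B) (hπ : Function.Surjective π) :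
    ∃ (m : ℕ) (f : Fin m → MvPolynomial (Fin d) A) (M : Fin d → Fin m → MvPolynomial (Fin d) A) (e : ℕ),
      (∀ i, π (f i) = 0) ∧
      (∀ g, π g = 0 → ∃ a : ℕ, C (t ^ a) * g ∈ Ideal.span (Set.range f)) ∧
      ∀ i, C (t ^ e) * f i - ∑ j, (∑ k, pderiv k (f i) * M k j) * f j ∈
        Ideal.span (Set.range f) ^ 2 := by
  classical
  let At := Localization.Away t
  let Bt := Localization (Algebra.algebraMapSubmonoid B (Submonoid.powers t))
  let φ : MvPolynomial (Fin d) A →+* MvPolynomial (Fin d) At := map (algebraMap A At)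
  haveI : Algebra.Smooth At Bt := hsm
  let πt : MvPolynomial (Fin d) At →ₐ[At] Bt := aeval fun k => algebraMap B Bt (π (X k))
  have hcomp : ∀ p, πt (φ p) = algebraMap B Bt (π p) := fun p => by
    induction p using MvPolynomial.induction_on with
    | C a =>
      rw [show φ (C a) = C (algebraMap A At a) from map_C _ a, aeval_C, ← algebraMap_eq,
        AlgHom.commutes, ← IsScalarTower.algebraMap_apply A At Bt,
        ← IsScalarTower.algebraMap_apply A B Bt]
    | add p q hp hq => simp only [map_add, hp, hq]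
    | mul_X p i hp => simp only [map_mul, hp, φ, map_X, πt, aeval_X]
  have hu : ∀ a : ℕ, IsUnit (algebraMap A At (t ^ a)) := fun a => by
    rw [map_pow]; exact (IsLocalization.Away.algebraMap_isUnit t).pow a
  have hπt : Function.Surjective πt := by
    intro b
    obtain ⟨x, ⟨_, _, ⟨a, rfl⟩, rfl⟩, rfl⟩ :=
      IsLocalization.exists_mk'_eq (Algebra.algebraMapSubmonoid B (Submonoid.powers t)) b
    obtain ⟨p, rfl⟩ := hπ x
    refine ⟨C (↑(hu a).unit⁻¹ : At) * φ p, ?_⟩
    rw [eq_comm, IsLocalization.mk'_eq_iff_eq_mul, map_mul, hcomp, aeval_C]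
    show _ = _ * algebraMap B Bt (algebraMap A B (t ^ a))
    rw [← IsScalarTower.algebraMap_apply A B Bt, IsScalarTower.algebraMap_apply A At Bt (t ^ a),
      mul_right_comm, ← map_mul, IsUnit.val_inv_mul, map_one, one_mul]
  obtain ⟨m, G, hG⟩ := Submodule.fg_iff_exists_fin_generating_family.1
    (Algebra.FinitePresentation.ker_fG_of_surjective πt hπt)
  choose a p hp using fun i => exists_clear t (G i)
  have hπp : ∀ i, ∃ c : ℕ, algebraMap A B (t ^ c) * π (p i) = 0 := fun i => by
    have h0 : algebraMap B Bt (π (p i)) = 0 := by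
      have hGi : πt (G i) = 0 := by
        have : G i ∈ RingHom.ker πt := hG ▸ Submodule.subset_span ⟨i, rfl⟩
        exact this
      rw [← hcomp, ← hp i, map_mul, hGi, mul_zero]
    obtain ⟨⟨_, _, ⟨c, rfl⟩, rfl⟩, hc⟩ :=
      (IsLocalization.map_eq_zero_iff (Algebra.algebraMapSubmonoid B (Submonoid.powers t)) Bt _).mp h0
    exact ⟨c, hc⟩
  choose c hc using hπp
  let f : Fin m → MvPolynomial (Fin d) A := fun i => C (t ^ c i) * p i
  let If := Ideal.span (Set.range f)
  have hfπ : ∀ i, π (f i) = 0 := fun i => by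
    rw [map_mul, ← algebraMap_eq, AlgHom.commutes]; exact hc i
  have hK : RingHom.ker πt = If.map φ := by
    refine le_antisymm ?_ ?_
    · show RingHom.ker πt.toRingHom ≤ _
      rw [← hG, Ideal.submodule_span_eq, Ideal.span_le]
      rintro _ ⟨i, rfl⟩
      have hu' : IsUnit (C (algebraMap A At (t ^ (c i + a i))) : MvPolynomial (Fin d) At) :=
        (hu _).map C
      rw [SetLike.mem_coe, ← Ideal.unit_mul_mem_iff_mem (If.map φ) hu']
      have : C (algebraMap A At (t ^ (c i + a i))) * G i = φ (f i) := by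
        rw [pow_add, map_mul, map_mul, mul_assoc, hp i]
        simp [φ, f]
        rfl
      rw [this]
      exact Ideal.mem_map_of_mem _ (Ideal.subset_span ⟨i, rfl⟩)
    · rw [Ideal.map_le_iff_le_comap, Ideal.span_le]
      rintro _ ⟨i, rfl⟩
      rw [SetLike.mem_coe, Ideal.mem_comap, RingHom.mem_ker, hcomp, hfπ, map_zero]
  have hker : ∀ g, π g = 0 → ∃ a : ℕ, C (t ^ a) * g ∈ If := fun g hg => by
    refine exists_pow_mul_mem t If ?_
    rw [← show RingHom.ker πt = If.map φ from hK, RingHom.mem_ker]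
    show πt (φ g) = 0
    rw [hcomp, hg, map_zero]
  obtain ⟨δ, hδ, hδ2⟩ := exists_deriv_section πt hπt
  have hM : ∀ k, ∃ a : ℕ, ∃ p ∈ If, C (algebraMap A At (t ^ a)) * δ k = φ p := fun k =>
    exists_clear_of_mem_map t If (hK.le (hδ k))
  choose a' p' hp'mem hp' using hM
  let a₀ := Finset.univ.sup a'
  let q : Fin d → MvPolynomial (Fin d) A := fun k => C (t ^ (a₀ - a' k)) * p' k
  have hq : ∀ k, C (algebraMap A At (t ^ a₀)) * δ k = φ (q k) := fun k => by
    have : a₀ = (a₀ - a' k) + a' k := (Nat.sub_add_cancel (Finset.le_sup (Finset.mem_univ k))).symm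
    conv_lhs => rw [this, pow_add, map_mul, map_mul, mul_assoc, hp' k]
    simp [φ, q]
  choose Q hQ using fun k => Ideal.mem_span_range_iff_exists_fun.mp
    (If.mul_mem_left (C (t ^ (a₀ - a' k))) (hp'mem k))
  have hid : ∀ i, ∃ b : ℕ, C (t ^ b) * (C (t ^ a₀) * f i + ∑ k, pderiv k (f i) * q k) ∈ If ^ 2 := by
    intro i
    refine exists_pow_mul_mem t (If ^ 2) ?_
    rw [Ideal.map_pow, ← show RingHom.ker πt = If.map φ from hK]
    have h1 := hδ2 (φ (f i)) (by rw [RingHom.mem_ker, hcomp, hfπ, map_zero])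
    convert Ideal.mul_mem_left _ (C (algebraMap A At (t ^ a₀))) h1 using 1
    rw [mul_add, Finset.mul_sum, map_add, map_mul, map_C, map_sum]
    congr 1
    refine Finset.sum_congr rfl fun k _ => ?_
    rw [map_mul, ← show φ (q k) = map (algebraMap A At) (q k) from rfl, ← hq k]
    simp only [φ, pderiv_map]
    ring
  choose b hb using hid
  let b₀ := Finset.univ.sup b
  refine ⟨m, f, fun k j => -(C (t ^ b₀) * Q k j), b₀ + a₀, hfπ, hker, fun i => ?_⟩
  have h4 := pow_mul_mem_mono t (Finset.le_sup (f := b) (Finset.mem_univ i)) (hb i)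
  convert h4 using 1
  simp only [Finset.sum_mul, mul_neg, neg_mul, Finset.sum_neg_distrib, sub_neg_eq_add, mul_add,
    pow_add, map_mul, mul_assoc, Finset.mul_sum]
  rw [add_right_inj, Finset.sum_comm]
  refine Finset.sum_congr rfl fun k _ => ?_
  rw [show q k = ∑ j, Q k j * f j from (hQ k).symm, Finset.mul_sum, Finset.mul_sum]
  exact Finset.sum_congr rfl fun j _ => by ring

/-- Homomorphisms modulo a high power of `t` are congruent to homomorphisms. -/
theorem exists_algHom_of_approx [HenselianRing A (Ideal.span {t})] {N : ℕ}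
    (hbd : ∀ a : A, (∃ m : ℕ, t ^ m * a = 0) → t ^ N * a = 0)
    (B : Type u) [CommRing B] [Algebra A B] [Algebra.FiniteType A B]
    (hsm : Algebra.Smooth (Localization.Away t)
      (Localization (Algebra.algebraMapSubmonoid B (Submonoid.powers t))))
    (n : ℕ) :
    ∃ L, n ≤ L ∧ ∀ σ : B →ₐ[A] A ⧸ Ideal.span {t} ^ L, ∃ τ : B →ₐ[A] A,
      ∀ b r, Ideal.Quotient.mk (Ideal.span {t} ^ L) r = σ b → τ b - r ∈ Ideal.span {t} ^ n := by
  classical
  obtain ⟨d, π, hπ⟩ := Algebra.FiniteType.iff_quotient_mvPolynomial''.mp ‹Algebra.FiniteType A B›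
  obtain ⟨m, f, M, e, hf, hker, hid⟩ := exists_equations t B hsm π hπ
  let s := n + N + e + 1
  refine ⟨s + e + 1, by omega, fun σ => ?_⟩
  choose y₀ hy₀ using fun k => Ideal.Quotient.mk_surjective (σ (π (X k)))
  have hσ : ∀ p, Ideal.Quotient.mk (Ideal.span {t} ^ (s + e + 1)) (aeval y₀ p) = σ (π p) := by
    have : (Ideal.Quotient.mkₐ A (Ideal.span {t} ^ (s + e + 1))).comp (aeval y₀) = σ.comp π :=
      MvPolynomial.algHom_ext fun k => by simp [hy₀ k]
    exact fun p => AlgHom.congr_fun this p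
  obtain ⟨y, hy, hyy⟩ := exists_root_of_approx t hbd f M e hid s (by omega) (by omega) y₀ fun i => by
    rw [← Ideal.span_singleton_pow, ← Ideal.Quotient.eq_zero_iff_mem, hσ, hf, map_zero]
  have hsub : ∀ p : MvPolynomial (Fin d) A, aeval y p - aeval y₀ p ∈ Ideal.span {t ^ s} := fun p => by
    have h := (taylor_mem (C := A) (Ideal.span {t ^ s}) y₀ (fun k => y k - y₀ k) hyy p).1
    rwa [show y₀ + (fun k => y k - y₀ k) = y from funext fun k => add_sub_cancel (y₀ k) (y k)] at h
  have hs : Ideal.span {t} ^ (s + e + 1) ≤ Ideal.span {t ^ s} := by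
    rw [← Ideal.span_singleton_pow]; exact Ideal.pow_le_pow_right (by omega)
  have hzero : ∀ p : MvPolynomial (Fin d) A, π p = 0 → aeval y p = 0 := fun p hp => by
    obtain ⟨a, ha⟩ := hker p hp
    refine eq_zero_of_torsion t hbd (show N ≤ s by omega) ?_ (m := a) ?_
    · have h1 : aeval y₀ p ∈ Ideal.span {t ^ s} :=
        hs (by rw [← Ideal.Quotient.eq_zero_iff_mem, hσ, hp, map_zero])
      simpa using add_mem (hsub p) h1
    · have : Ideal.span (Set.range f) ≤ RingHom.ker (aeval (R := A) y) :=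
        Ideal.span_le.mpr (Set.range_subset_iff.mpr fun i => hy i)
      have h0 : aeval y (C (t ^ a) * p) = 0 := this ha
      simpa using h0
  let τ : B →ₐ[A] A := (Ideal.Quotient.liftₐ (RingHom.ker π) (aeval y)
    fun p hp => hzero p hp).comp (Ideal.quotientKerAlgEquivOfSurjective hπ).symm.toAlgHom
  refine ⟨τ, fun b r hr => ?_⟩
  obtain ⟨p, rfl⟩ := hπ b
  have hτ : τ (π p) = aeval y p := by
    have e : (Ideal.quotientKerAlgEquivOfSurjective hπ).symm (π p) = Ideal.Quotient.mk _ p := by
      rw [AlgEquiv.symm_apply_eq]; rfl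
    show Ideal.Quotient.liftₐ (RingHom.ker π) (aeval y) (fun p hp => hzero p hp) ((Ideal.quotientKerAlgEquivOfSurjective hπ).symm (π p)) = _
    rw [e]
    rfl
  rw [hτ, ← sub_add_sub_cancel _ (aeval y₀ p)]
  refine add_mem ?_ (Ideal.pow_le_pow_right (by omega : n ≤ s + e + 1)
    (Ideal.Quotient.eq.mp ((hσ p).trans hr.symm)))
  have hns : Ideal.span {t ^ s} ≤ Ideal.span {t} ^ n := by
    rw [← Ideal.span_singleton_pow]; exact Ideal.pow_le_pow_right (by omega)
  exact hns (hsub p)

end Groth.Agent.Elkik88
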