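import Groth.Agent.Chow.Base
import Mathlib

/-!
# Ring-valued coordinates of points of projective space over a base scheme
-/

set_option autoImplicit false

universe u

open CategoryTheory CategoryTheory.Limits AlgebraicGeometry MvPolynomial HomogeneousLocalization

namespace Groth.Agent.Elkik88

open Groth.Agent.Chow

noncomputable section

/-- The integers. -/
abbrev Zu : Type u := ULift.{u} ℤ

variable {N : ℕ} {T : Type u} [CommRing T]

/-- Evaluation of integral forms at a coordinate vector. -/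
def evZ (v : Fin (N + 1) → T) : MvPolynomial (Fin (N + 1)) Zu.{u} →+* T :=
  eval₂Hom ((Int.castRingHom T).comp ULift.ringEquiv.toRingHom) v

@[simp] theorem evZ_X (v : Fin (N + 1) → T) (i : Fin (N + 1)) : evZ v (X i) = v i := eval₂Hom_X' _ _ i

theorem zu_hom_ext {f g : Zu.{u} →+* T} : f = g := by
  refine RingHom.ext fun x => ?_
  have := RingHom.ext_int (f.comp ULift.ringEquiv.symm.toRingHom) (g.comp ULift.ringEquiv.symm.toRingHom)
  exact RingHom.congr_fun this x.down

theorem comp_evZ {T' : Type u} [CommRing T'] (φ : T →+* T') (v : Fin (N + 1) → T) :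
    φ.comp (evZ v) = evZ (φ ∘ v) :=
  MvPolynomial.ringHom_ext (fun a => RingHom.congr_fun
    (zu_hom_ext (f := (φ.comp (evZ v)).comp C) (g := (evZ (φ ∘ v)).comp C)) a) fun i => by simp

theorem eq_evZ (ev : MvPolynomial (Fin (N + 1)) Zu.{u} →+* T) : ev = evZ (fun i => ev (X i)) :=
  MvPolynomial.ringHom_ext (fun a => RingHom.congr_fun
    (zu_hom_ext (f := ev.comp C) (g := (evZ (fun i => ev (X i))).comp C)) a) fun i => by simp

theorem isUnit_evZ_X {v : Fin (N + 1) → T} {i : Fin (N + 1)} (hu : IsUnit (v i)) :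
    IsUnit (evZ v (X i)) := by rwa [evZ_X]

/-- The point with homogeneous coordinates `v`, where `v i` is a unit. -/
def ptR (v : Fin (N + 1) → T) (i : Fin (N + 1)) (hu : IsUnit (v i)) :
    Spec (CommRingCat.of T) ⟶ Pr N Zu.{u} :=
  Spec.map (CommRingCat.ofHom (away (evZ v) (X i) (isUnit_evZ_X hu))) ≫ chart N Zu.{u} i

theorem comp_away {T' : Type u} [CommRing T'] (φ : T →+* T') (ev : MvPolynomial (Fin (N + 1)) Zu.{u} →+* T)
    {f : MvPolynomial (Fin (N + 1)) Zu.{u}} {d : ℕ} (hf : f ∈ CohB1.polyGrading N Zu.{u} d)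
    (h : IsUnit (ev f)) (ev' : MvPolynomial (Fin (N + 1)) Zu.{u} →+* T') (he : φ.comp ev = ev')
    (h' : IsUnit (ev' f)) :
    φ.comp (away ev f h) = away ev' f h' := by
  subst he
  refine RingHom.ext fun y => ?_
  obtain ⟨k, a, ha, rfl⟩ := Away.mk_surjective (CohB1.polyGrading N Zu.{u}) hf y
  apply ((h'.pow k).mul_left_inj).1
  rw [away_mk _ f h' hf k a ha, RingHom.comp_apply, RingHom.comp_apply, ← map_pow, ← map_mul,
    away_mk ev f h hf k a ha]
  rfl

theorem comp_ptR {T' : Type u} [CommRing T'] (φ : T →+* T') (v : Fin (N + 1) → T) (i : Fin (N + 1))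
    (hu : IsUnit (v i)) :
    Spec.map (CommRingCat.ofHom φ) ≫ ptR v i hu = ptR (φ ∘ v) i (hu.map φ) := by
  rw [ptR, ptR, ← Spec.map_comp_assoc, ← CommRingCat.ofHom_comp,
    comp_away φ (evZ v) (X_mem i) _ (evZ (φ ∘ v)) (comp_evZ φ v) (isUnit_evZ_X (hu.map φ))]

theorem ptR_congr {v v' : Fin (N + 1) → T} (h : v = v') (i : Fin (N + 1)) (hu : IsUnit (v i))
    (hu' : IsUnit (v' i)) : ptR v i hu = ptR v' i hu' := by
  subst h; rfl

theorem ptR_eq (v : Fin (N + 1) → T) {i k : Fin (N + 1)} (hi : IsUnit (v i)) (hk : IsUnit (v k)) :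
    ptR v i hi = ptR v k hk := by
  have hik : IsUnit (evZ v (X i * X k)) := by
    rw [map_mul]; exact (isUnit_evZ_X hi).mul (isUnit_evZ_X hk)
  rw [ptR, ptR, ← away_comp_awayMap (evZ v) (X_mem i) (X_mem k) rfl (isUnit_evZ_X hi) hik,
    ← away_comp_awayMap (evZ v) (X_mem k) (X_mem i) (mul_comm (X i) (X k)) (isUnit_evZ_X hk) hik,
    CommRingCat.ofHom_comp, CommRingCat.ofHom_comp, Spec.map_comp_assoc, Spec.map_comp_assoc,
    Proj.SpecMap_awayMap_awayι, Proj.SpecMap_awayMap_awayι]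

theorem ptR_scale (v : Fin (N + 1) → T) (c : T) (hc : IsUnit c) (i : Fin (N + 1)) (hu : IsUnit (v i))
    (hu' : IsUnit (c * v i)) : ptR (fun j => c * v j) i hu' = ptR v i hu := by
  have h : away (evZ fun j => c * v j) (X i) (isUnit_evZ_X hu') = away (evZ v) (X i) (isUnit_evZ_X hu) := by
    refine RingHom.ext fun y => ?_
    obtain ⟨k, a, ha, rfl⟩ := Away.mk_surjective (CohB1.polyGrading N Zu.{u}) (X_mem i) y
    apply (((isUnit_evZ_X (v := fun j => c * v j) hu').pow k).mul_left_inj).1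
    rw [away_mk (evZ fun j => c * v j) (X i) (isUnit_evZ_X hu') (X_mem i) k a ha]
    have hk : evZ (fun j => c * v j) a = c ^ (k • 1) * evZ v a :=
      eval₂_smul_of_isHomogeneous _ v c ((mem_homogeneousSubmodule _ _).1 ha)
    rw [hk, smul_eq_mul, mul_one, evZ_X, mul_pow,
      ← away_mk (evZ v) (X i) (isUnit_evZ_X hu) (X_mem i) k a ha, evZ_X]
    ring
  exact congrArg (fun φ : Away (CohB1.polyGrading N Zu.{u}) (X i) →+* T =>
    Spec.map (CommRingCat.ofHom φ) ≫ chart N Zu.{u} i) h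

theorem ptR_injective {v v' : Fin (N + 1) → T} {i : Fin (N + 1)} (hu : IsUnit (v i)) (hu' : IsUnit (v' i))
    (h : v i = 1) (h' : v' i = 1) (he : ptR v i hu = ptR v' i hu') : v = v' := by
  rw [ptR, ptR, cancel_mono] at he
  have h2 : away (evZ v) (X i) (isUnit_evZ_X hu) = away (evZ v') (X i) (isUnit_evZ_X hu') :=
    congrArg CommRingCat.Hom.hom (Spec.map_injective he)
  have h1 := congrArg (fun f : Away (CohB1.polyGrading N Zu.{u}) (X i) →+* T => f.comp (dh N Zu.{u} i)) h2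
  simp only [away_dh (evZ v) i (isUnit_evZ_X hu) (by rw [evZ_X, h]),
    away_dh (evZ v') i (isUnit_evZ_X hu') (by rw [evZ_X, h'])] at h1
  funext j
  simpa using RingHom.congr_fun h1 (X j)

theorem mem_basicOpen_iff (v : Fin (N + 1) → T) (i k : Fin (N + 1)) (hu : IsUnit (v i))
    (x : Spec (CommRingCat.of T)) :
    ptR v i hu x ∈ Proj.basicOpen (CohB1.polyGrading N Zu.{u}) (X k) ↔ v k ∉ x.asIdeal := by
  have hb := Proj.awayι_preimage_basicOpen (CohB1.polyGrading N Zu.{u}) (X_mem i) one_pos (X_mem k) one_pos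
  have h1 : ptR v i hu x ∈ Proj.basicOpen (CohB1.polyGrading N Zu.{u}) (X k) ↔
      Spec.map (CommRingCat.ofHom (away (evZ v) (X i) (isUnit_evZ_X hu))) x ∈
        chart N Zu.{u} i ⁻¹ᵁ Proj.basicOpen (CohB1.polyGrading N Zu.{u}) (X k) := Iff.rfl
  rw [h1, hb]
  have he := away_mk (evZ v) (X i) (isUnit_evZ_X hu) (X_mem i) 1 (X k ^ 1) (by simpa using X_mem k)
  rw [pow_one (evZ v (X i)), map_pow, pow_one (evZ v (X k)), evZ_X, evZ_X] at he
  show away (evZ v) (X i) (isUnit_evZ_X hu) (Away.isLocalizationElem (X_mem i) (X_mem k)) ∉ x.asIdeal ↔ _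
  rw [← he]
  exact ⟨fun h hm => h ((x.isPrime.mem_or_mem hm).resolve_right
      fun hx => x.isPrime.ne_top (Ideal.eq_top_of_isUnit_mem _ hx hu)),
    fun h hm => h (x.asIdeal.mul_mem_right _ hm)⟩

theorem exists_ptR {i : Fin (N + 1)} (a : Spec (CommRingCat.of T) ⟶ Pr N Zu.{u})
    (ha : ∀ x, a x ∈ Proj.basicOpen (CohB1.polyGrading N Zu.{u}) (X i)) :
    ∃ (v : Fin (N + 1) → T) (hu : IsUnit (v i)), v i = 1 ∧ a = ptR v i hu := by
  have hr : Set.range a ⊆ Set.range (chart N Zu.{u} i) := by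
    rintro _ ⟨x, rfl⟩
    show a x ∈ (chart N Zu.{u} i).opensRange
    rw [Proj.opensRange_awayι]
    exact ha x
  let a' := IsOpenImmersion.lift (chart N Zu.{u} i) a hr
  obtain ⟨α, hα⟩ := Spec.map_surjective a'
  let ev : MvPolynomial (Fin (N + 1)) Zu.{u} →+* T := α.hom.comp (dh N Zu.{u} i)
  have h1 : ev (X i) = 1 := by
    have h : dh N Zu.{u} i (X i) = 1 := by
      rw [dh, ZetaLib.dehom_of_mem _ _ (X_mem i)]
      refine val_injective _ ?_
      simp [Localization.mk_self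
        ⟨(X i : MvPolynomial (Fin (N + 1)) Zu.{u}), Submonoid.mem_powers _⟩]
    rw [RingHom.comp_apply, h, map_one]
  refine ⟨fun j => ev (X j), by show IsUnit (ev (X i)); rw [h1]; exact isUnit_one, h1, ?_⟩
  have hu : IsUnit (ev (X i)) := by rw [h1]; exact isUnit_one
  have h2 : away (evZ fun j => ev (X j)) (X i) (isUnit_evZ_X hu) = α.hom := by
    refine RingHom.ext fun y => ?_
    obtain ⟨z, rfl⟩ := ZetaLib.dehom_surjective (CohB1.polyGrading N Zu.{u}) (X_mem i) y
    have := RingHom.congr_fun (away_dh (evZ fun j => ev (X j)) i (isUnit_evZ_X hu) (by rw [evZ_X, h1])) z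
    exact this.trans (RingHom.congr_fun (eq_evZ ev).symm z)
  rw [ptR, h2, CommRingCat.ofHom_hom, hα, IsOpenImmersion.lift_fac]

/-- The chart of `P^N_U` over a basic open is affine, with the evident coordinates. -/
theorem exists_chart_P {U : Scheme.{u}} (N : ℕ) (i : Fin (N + 1)) {V : U.Opens} (hV : IsAffineOpen V) :
    ∃ Ω : (CohB1.ProjSpaceOver N U).Opens, IsAffineOpen Ω ∧
      Ω = (toZ U N ⁻¹ᵁ Proj.basicOpen (CohB1.polyGrading N Zu.{u}) (X i)) ⊓
        (CohB1.ProjSpaceOver.toBase N U ⁻¹ᵁ V) := by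
  refine ⟨_, ?_, rfl⟩
  haveI : IsAffine V.toScheme := hV
  let j : pullback (chart N Zu.{u} i ≫ str N Zu.{u}) (term V.toScheme) ⟶ CohB1.ProjSpaceOver N U :=
    pullback.map (chart N Zu.{u} i ≫ str N Zu.{u}) (term V.toScheme) (str N Zu.{u}) (term U)
      (chart N Zu.{u} i) V.ι (𝟙 _) (Category.comp_id _) (specULiftZIsTerminal.hom_ext _ _)
  haveI : IsOpenImmersion j :=
    MorphismProperty.pullbackMap (P := @IsOpenImmersion) inferInstance inferInstance rfl
      (specULiftZIsTerminal.hom_ext _ _)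
  have : j.opensRange = (toZ U N ⁻¹ᵁ Proj.basicOpen (CohB1.polyGrading N Zu.{u}) (X i)) ⊓
      (CohB1.ProjSpaceOver.toBase N U ⁻¹ᵁ V) := by
    refine TopologicalSpace.Opens.ext ?_
    have h := Scheme.Pullback.range_map (chart N Zu.{u} i ≫ str N Zu.{u}) (term V.toScheme) (str N Zu.{u})
      (term U) (chart N Zu.{u} i) V.ι (𝟙 _) (Category.comp_id _) (specULiftZIsTerminal.hom_ext _ _)
    refine h.trans ?_
    rw [← Scheme.Hom.coe_opensRange (chart N Zu.{u} i), Proj.opensRange_awayι, Scheme.Opens.range_ι]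
    rfl
  rw [← this]
  exact isAffineOpen_opensRange j

end

end Groth.Agent.Elkik88
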