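import Groth.Agent.Elkik88.Affine

/-!
# The affine scheme of line subbundles with prescribed vanishing, and its approximation
-/

set_option autoImplicit false

universe u

namespace Groth.Agent.Elkik88

open MvPolynomial

variable {R : Type u} [CommRing R]

theorem aeval_mul_left {σ A : Type*} [CommRing A] [Algebra R A] (v : σ → A) (c : A)
    {p : MvPolynomial σ R} {d : ℕ} (hp : p.IsHomogeneous d) :
    aeval (fun i => c * v i) p = c ^ d * aeval v p := by
  rw [aeval_def, aeval_def, eval₂_eq, eval₂_eq, Finset.mul_sum]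
  refine Finset.sum_congr rfl fun m hm => ?_
  have hd : ∑ i ∈ m.support, m i = d := by
    have := hp (mem_support_iff.1 hm)
    simpa [Finsupp.weight_apply, Finsupp.sum] using this
  simp only [mul_pow, Finset.prod_mul_distrib, Finset.prod_pow_eq_pow_sum, hd]
  ring

theorem aeval_mem_span {σ A : Type*} [CommRing A] [Algebra R A] (v : σ → A)
    {p : MvPolynomial σ R} {d : ℕ} (hp : p.IsHomogeneous d) (hd : 0 < d) :
    aeval v p ∈ Ideal.span (Set.range v) := by
  rw [aeval_def, eval₂_eq]
  refine Ideal.sum_mem _ fun m hm => Ideal.mul_mem_left _ _ ?_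
  have h : ∑ i ∈ m.support, m i = d := by
    have := hp (mem_support_iff.1 hm)
    simpa [Finsupp.weight_apply, Finsupp.sum] using this
  obtain ⟨i, hi⟩ : m.support.Nonempty := by
    by_contra h0
    rw [Finset.not_nonempty_iff_eq_empty.mp h0, Finset.sum_empty] at h
    omega
  exact Ideal.mem_of_dvd _ (Finset.dvd_prod_of_mem (fun j => v j ^ m j) hi)
    (Ideal.pow_mem_of_mem _ (Ideal.subset_span (Set.mem_range_self i)) _ (Nat.pos_of_ne_zero (Finsupp.mem_support_iff.mp hi)))

/-- The data of the system: `k` cuts out the base, `F` the closed and `G` the open condition. -/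
structure Sys (R : Type u) [CommRing R] where
  N : ℕ
  L : ℕ
  a : ℕ
  c : ℕ
  k : Fin L → R
  F : Fin a → MvPolynomial (Fin (N + 1)) R
  dF : Fin a → ℕ
  hF : ∀ i, (F i).IsHomogeneous (dF i)
  G : Fin c → MvPolynomial (Fin (N + 1)) R
  dG : Fin c → ℕ
  hG : ∀ i, (G i).IsHomogeneous (dG i)
  hdG : ∀ i, 0 < dG i

variable (S : Sys R)

/-- A good coordinate vector in the chart `(i, l, g)`, with `t` inverted. -/
structure Sys.Good (t : R) (i : Fin (S.N + 1)) (l : Fin S.L) (g : Fin S.c) (A : Type u) [CommRing A]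
    [Algebra R A] (w : Fin (S.N + 1) → A) : Prop where
  one : w i = 1
  unit_t : IsUnit (algebraMap R A t)
  unit_k : IsUnit (algebraMap R A (S.k l))
  unit_G : IsUnit (aeval w (S.G g))
  zero_F : ∀ a, aeval w (S.F a) = 0

/-- Good vectors lift along square-zero ideals. -/
def Sys.Lifts (t : R) : Prop :=
  ∀ (i : Fin (S.N + 1)) (l : Fin S.L) (g : Fin S.c) (T : Type u) [CommRing T] [Algebra R T] (I : Ideal T),
    I ^ 2 = ⊥ → ∀ wb : Fin (S.N + 1) → T ⧸ I, S.Good t i l g (T ⧸ I) wb →
      ∃ w : Fin (S.N + 1) → T, S.Good t i l g T w ∧ ∀ j, Ideal.Quotient.mk I (w j) = wb j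

variable (b m : ℕ)

/-- Variables of the universal solution. -/
abbrev Sys.Var : Type := (Fin b × Fin (S.N + 1)) ⊕ (Fin S.L × Fin S.c × Fin b)

/-- A solution: `b` vectors spanning a line and a witness of the open condition. -/
structure Sys.IsSol (A : Type u) [CommRing A] [Algebra R A] (x : S.Var b → A) : Prop where
  minor : ∀ l p q i j, algebraMap R A (S.k l) ^ m *
    (x (.inl (p, i)) * x (.inl (q, j)) - x (.inl (p, j)) * x (.inl (q, i))) = 0
  vanish : ∀ l a p, algebraMap R A (S.k l) ^ m * aeval (fun i => x (.inl (p, i))) (S.F a) = 0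
  cover : ∀ l, algebraMap R A (S.k l) ^ m =
    ∑ gp : Fin S.c × Fin b, x (.inr (l, gp.1, gp.2)) * aeval (fun i => x (.inl (gp.2, i))) (S.G gp.1)

/-- The equations. -/
noncomputable def Sys.eqs : (Fin S.L × Fin b × Fin b × Fin (S.N + 1) × Fin (S.N + 1)) ⊕
    (Fin S.L × Fin S.a × Fin b) ⊕ Fin S.L → MvPolynomial (S.Var b) R
  | .inl (l, p, q, i, j) => C (S.k l) ^ m *
      (X (.inl (p, i)) * X (.inl (q, j)) - X (.inl (p, j)) * X (.inl (q, i)))
  | .inr (.inl (l, a, p)) => C (S.k l) ^ m * rename (fun i => (.inl (p, i) : S.Var b)) (S.F a)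
  | .inr (.inr l) => C (S.k l) ^ m - ∑ gp : Fin S.c × Fin b,
      X (.inr (l, gp.1, gp.2)) * rename (fun i => (.inl (gp.2, i) : S.Var b)) (S.G gp.1)

/-- The algebra of solutions. -/
abbrev Sys.W : Type u := MvPolynomial (S.Var b) R ⧸ Ideal.span (Set.range (S.eqs b m))

variable {b m}

theorem Sys.isSol_iff {A : Type u} [CommRing A] [Algebra R A] (x : S.Var b → A) :
    S.IsSol b m A x ↔ ∀ e, aeval x (S.eqs b m e) = 0 := by
  constructor
  · intro h e
    rcases e with ⟨l, p, q, i, j⟩ | ⟨l, a, p⟩ | l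
    · simpa [Sys.eqs] using h.minor l p q i j
    · simpa [Sys.eqs, aeval_rename, Function.comp_def] using h.vanish l a p
    · simpa [Sys.eqs, aeval_rename, Function.comp_def, sub_eq_zero] using h.cover l
  · intro h
    refine ⟨fun l p q i j => ?_, fun l a p => ?_, fun l => ?_⟩
    · simpa [Sys.eqs] using h (.inl (l, p, q, i, j))
    · simpa [Sys.eqs, aeval_rename, Function.comp_def] using h (.inr (.inl (l, a, p)))
    · simpa [Sys.eqs, aeval_rename, Function.comp_def, sub_eq_zero] using h (.inr (.inr l))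

/-- The universal solution. -/
noncomputable def Sys.univ : S.Var b → S.W b m := fun z => Ideal.Quotient.mk _ (X z)

theorem Sys.isSol_univ : S.IsSol b m (S.W b m) S.univ := by
  refine (S.isSol_iff _).mpr fun e => ?_
  have : (aeval (S.univ : S.Var b → S.W b m)) = Ideal.Quotient.mkₐ R _ :=
    MvPolynomial.algHom_ext fun z => by simp [Sys.univ]
  rw [this]
  exact Ideal.Quotient.eq_zero_iff_mem.mpr (Ideal.subset_span ⟨e, rfl⟩)

theorem Sys.exists_hom {A : Type u} [CommRing A] [Algebra R A] {x : S.Var b → A} (hx : S.IsSol b m A x) :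
    ∃ φ : S.W b m →ₐ[R] A, ∀ z, φ (S.univ z) = x z := by
  refine ⟨Ideal.Quotient.liftₐ _ (aeval x) fun p hp => ?_, fun z => aeval_X x z⟩
  have : Ideal.span (Set.range (S.eqs b m)) ≤ RingHom.ker (aeval (R := R) x) :=
    Ideal.span_le.mpr (Set.range_subset_iff.mpr fun e => (S.isSol_iff x).mp hx e)
  exact this hp

theorem Sys.IsSol.map {A A' : Type u} [CommRing A] [Algebra R A] [CommRing A'] [Algebra R A']
    {x : S.Var b → A} (hx : S.IsSol b m A x) (φ : A →ₐ[R] A') : S.IsSol b m A' (φ ∘ x) := by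
  refine (S.isSol_iff _).mpr fun e => ?_
  exact (comp_aeval_apply φ (f := x) _).symm.trans (by rw [(S.isSol_iff x).mp hx e, map_zero])

theorem Sys.isSol_of_hom {A : Type u} [CommRing A] [Algebra R A] (φ : S.W b m →ₐ[R] A) :
    S.IsSol b m A (φ ∘ S.univ) := S.isSol_univ.map S φ

theorem Sys.hom_ext {A : Type u} [CommRing A] [Algebra R A] {φ ψ : S.W b m →ₐ[R] A}
    (h : ∀ z, φ (S.univ z) = ψ (S.univ z)) : φ = ψ :=
  Ideal.Quotient.algHom_ext _ (MvPolynomial.algHom_ext h)

/-- The element cutting out a chart of the space of solutions. -/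
noncomputable def Sys.chartElem (t : R) (l : Fin S.L) (p : Fin b) (i : Fin (S.N + 1)) (g : Fin S.c) :
    S.W b m :=
  algebraMap R _ t * algebraMap R _ (S.k l) * S.univ (.inl (p, i)) *
    aeval (fun j => S.univ (b := b) (m := m) (.inl (p, j))) (S.G g)

theorem isUnit_of_mk {T : Type u} [CommRing T] {I : Ideal T} (hI : I ^ 2 = ⊥) {x : T}
    (hx : IsUnit (Ideal.Quotient.mk I x)) : IsUnit x := by
  obtain ⟨y, hy⟩ := Ideal.Quotient.mk_surjective (↑hx.unit⁻¹ : T ⧸ I)
  have : Ideal.Quotient.mk I (x * y - 1) = 0 := by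
    rw [map_sub, map_mul, hy, IsUnit.mul_val_inv, map_one, sub_self]
  have hn : IsNilpotent (x * y - 1) := ⟨2, by
    rw [← Ideal.mem_bot, ← hI]
    exact Ideal.pow_mem_pow (Ideal.Quotient.eq_zero_iff_mem.mp this) 2⟩
  exact isUnit_of_mul_isUnit_left (by simpa using hn.isUnit_add_one : IsUnit (x * y))

/-- Solutions lift along square-zero ideals inside a chart. -/
theorem Sys.exists_lift_sol (t : R) (hl : S.Lifts t) {T : Type u} [CommRing T] [Algebra R T] (I : Ideal T)
    (hI : I ^ 2 = ⊥) {l : Fin S.L} {p : Fin b} {i : Fin (S.N + 1)} {g : Fin S.c}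
    (Xb : S.Var b → T ⧸ I) (hX : S.IsSol b m (T ⧸ I) Xb)
    (hut : IsUnit (algebraMap R (T ⧸ I) t)) (huk : IsUnit (algebraMap R (T ⧸ I) (S.k l)))
    (hui : IsUnit (Xb (.inl (p, i)))) (huG : IsUnit (aeval (fun j => Xb (.inl (p, j))) (S.G g))) :
    ∃ x : S.Var b → T, S.IsSol b m T x ∧ ∀ z, Ideal.Quotient.mk I (x z) = Xb z := by
  classical
  obtain ⟨u, hu⟩ := hui
  have hmin : ∀ q j, Xb (.inl (q, j)) = Xb (.inl (q, i)) * (↑u⁻¹ * Xb (.inl (p, j))) := by
    intro q j
    have h := (huk.pow m).mul_right_eq_zero.mp (hX.minor l p q i j)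
    rw [← hu, sub_eq_zero] at h
    rw [mul_left_comm, mul_comm (Xb (.inl (q, i))), ← h, ← mul_assoc, Units.inv_mul, one_mul]
  let wb : Fin (S.N + 1) → T ⧸ I := fun j => ↑u⁻¹ * Xb (.inl (p, j))
  have hw : S.Good t i l g (T ⧸ I) wb := by
    refine ⟨?_, hut, huk, ?_, fun a => ?_⟩
    · show ↑u⁻¹ * Xb (.inl (p, i)) = 1
      rw [← hu, Units.inv_mul]
    · rw [show aeval wb (S.G g) = _ from aeval_mul_left (fun j => Xb (.inl (p, j))) (↑u⁻¹ : T ⧸ I) (S.hG g)]
      exact (u⁻¹.isUnit.pow _).mul huG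
    · rw [show aeval wb (S.F a) = _ from aeval_mul_left (fun j => Xb (.inl (p, j))) (↑u⁻¹ : T ⧸ I) (S.hF a),
        (huk.pow m).mul_right_eq_zero.mp (hX.vanish l a p), mul_zero]
  obtain ⟨w, hwg, hww⟩ := hl i l g T I hI wb hw
  choose a ha using fun q => Ideal.Quotient.mk_surjective (Xb (.inl (q, i)))
  choose c₀ hc₀ using fun z : Fin S.L × Fin S.c × Fin b => Ideal.Quotient.mk_surjective (Xb (.inr z))
  let v : Fin b → Fin (S.N + 1) → T := fun q j => a q * w j
  have hv : ∀ q j, Ideal.Quotient.mk I (v q j) = Xb (.inl (q, j)) := fun q j => by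
    rw [hmin q j, map_mul, ha, hww]
  have haev : ∀ (P : MvPolynomial (Fin (S.N + 1)) R) (f : Fin (S.N + 1) → T),
      Ideal.Quotient.mk I (aeval f P) = aeval (fun j => Ideal.Quotient.mk I (f j)) P := fun P f =>
    comp_aeval_apply (Ideal.Quotient.mkₐ R I) (f := f) P
  have hG' : IsUnit (aeval (v p) (S.G g)) := by
    refine isUnit_of_mk hI ?_
    rw [haev]
    simpa [hv] using huG
  let δ : Fin S.L → T := fun l' => algebraMap R T (S.k l') ^ m -
    ∑ gp : Fin S.c × Fin b, c₀ (l', gp.1, gp.2) * aeval (v gp.2) (S.G gp.1)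
  have hδ : ∀ l', δ l' ∈ I := fun l' => by
    rw [← Ideal.Quotient.eq_zero_iff_mem, map_sub, map_pow, map_sum, sub_eq_zero]
    refine Eq.trans ?_ ((hX.cover l').trans (Finset.sum_congr rfl fun gp _ => ?_))
    · rfl
    · rw [map_mul, hc₀, haev]
      simp [hv]
  let cc : Fin S.L × Fin S.c × Fin b → T := fun z =>
    c₀ z + if z.2 = (g, p) then δ z.1 * ↑hG'.unit⁻¹ else 0
  let x : S.Var b → T := Sum.elim (fun qj => v qj.1 qj.2) cc
  have hx : S.IsSol b m T x := by
    refine ⟨fun l' q₁ q₂ i₁ j₁ => ?_, fun l' a' q => ?_, fun l' => ?_⟩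
    · simp [x, v]
      ring
    · show _ * aeval (fun j => a q * w j) (S.F a') = 0
      rw [aeval_mul_left w (a q) (S.hF a'), hwg.zero_F, mul_zero, mul_zero]
    · show _ = ∑ gp : Fin S.c × Fin b, cc (l', gp.1, gp.2) * aeval (v gp.2) (S.G gp.1)
      simp only [cc, add_mul, Finset.sum_add_distrib, ite_mul, zero_mul, Prod.mk.eta,
        Finset.sum_ite_eq', Finset.mem_univ, if_true]
      rw [mul_assoc, IsUnit.val_inv_mul, mul_one]
      simp [δ]
  refine ⟨x, hx, fun z => ?_⟩
  rcases z with ⟨q, j⟩ | ⟨l', gp⟩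
  · exact hv q j
  · show Ideal.Quotient.mk I (cc (l', gp)) = Xb (.inr (l', gp))
    simp only [cc, map_add, hc₀, add_eq_left]
    split_ifs
    · rw [map_mul, Ideal.Quotient.eq_zero_iff_mem.mpr (hδ l'), zero_mul]
    · exact map_zero _

theorem Sys.formallySmooth_chart (t : R) (hl : S.Lifts t) (l : Fin S.L) (p : Fin b) (i : Fin (S.N + 1))
    (g : Fin S.c) :
    Algebra.FormallySmooth R (Localization.Away (S.chartElem (m := m) t l p i g)) := by
  refine Algebra.FormallySmooth.of_comp_surjective fun T _ _ I hI φ => ?_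
  let φ₀ : S.W b m →ₐ[R] T ⧸ I := φ.comp (IsScalarTower.toAlgHom R (S.W b m) _)
  have hh : IsUnit (φ₀ (S.chartElem t l p i g)) :=
    (IsLocalization.Away.algebraMap_isUnit (S := Localization.Away (S.chartElem (m := m) t l p i g)) _).map φ
  simp only [Sys.chartElem, map_mul, AlgHom.commutes, comp_aeval_apply, IsUnit.mul_iff] at hh
  obtain ⟨⟨⟨hut, huk⟩, hui⟩, huG⟩ := hh
  obtain ⟨x, hx, hxX⟩ := S.exists_lift_sol t hl I hI (φ₀ ∘ S.univ) (S.isSol_of_hom φ₀) hut huk hui huG
  obtain ⟨ψ₀, hψ₀⟩ := S.exists_hom hx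
  have hred : (Ideal.Quotient.mkₐ R I).comp ψ₀ = φ₀ := S.hom_ext fun z => by
    rw [AlgHom.comp_apply, hψ₀]
    exact hxX z
  have hψu : IsUnit (ψ₀ (S.chartElem t l p i g)) := by
    refine isUnit_of_mk hI ?_
    have := congrArg (fun f : S.W b m →ₐ[R] T ⧸ I => f (S.chartElem t l p i g)) hred
    simp only [AlgHom.comp_apply, Ideal.Quotient.mkₐ_eq_mk] at this
    rw [this]
    exact (IsLocalization.Away.algebraMap_isUnit
      (S := Localization.Away (S.chartElem (m := m) t l p i g)) _).map φ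
  refine ⟨IsLocalization.Away.liftAlgHom (S.chartElem t l p i g) (f := ψ₀) hψu, ?_⟩
  refine IsLocalization.algHom_ext (Submonoid.powers (S.chartElem (m := m) t l p i g))
    (AlgHom.ext fun z => ?_)
  show Ideal.Quotient.mk I (IsLocalization.Away.liftAlgHom (S.chartElem t l p i g) (f := ψ₀) hψu
    (algebraMap (S.W b m) _ z)) = φ₀ z
  rw [IsLocalization.Away.liftAlgHom_apply, IsLocalization.Away.lift_eq]
  exact AlgHom.congr_fun hred z

/-- The algebra of solutions is smooth after inverting `t`. -/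
theorem Sys.smooth_W [IsNoetherianRing R] (t : R) (hl : S.Lifts t)
    (hk : t ∈ (Ideal.span (Set.range S.k)).radical) :
    Algebra.Smooth (Localization.Away t)
      (Localization (Algebra.algebraMapSubmonoid (S.W b m) (Submonoid.powers t))) := by
  haveI : Algebra.FinitePresentation R (S.W b m) :=
    Algebra.FinitePresentation.quotient (Submodule.fg_span (Set.finite_range _))
  let t' : S.W b m := algebraMap R _ t
  have hloc : (↑(PrimeSpectrum.basicOpen t') : Set (PrimeSpectrum (S.W b m))) ⊆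
      Algebra.smoothLocus R (S.W b m) := by
    intro P hP
    have htP : t' ∉ P.asIdeal := hP
    obtain ⟨l, hl'⟩ : ∃ l, algebraMap R (S.W b m) (S.k l) ∉ P.asIdeal := by
      by_contra hall
      push Not at hall
      obtain ⟨n, hn⟩ := hk
      have hle : Ideal.span (Set.range S.k) ≤ P.asIdeal.comap (algebraMap R (S.W b m)) :=
        Ideal.span_le.mpr (Set.range_subset_iff.mpr hall)
      have : t ^ n ∈ P.asIdeal.comap (algebraMap R (S.W b m)) := hle hn
      rw [Ideal.mem_comap, map_pow] at this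
      exact htP (P.isPrime.mem_of_pow_mem n this)
    obtain ⟨gp, hgp⟩ : ∃ gp : Fin S.c × Fin b,
        aeval (fun j => S.univ (m := m) (.inl (gp.2, j))) (S.G gp.1) ∉ P.asIdeal := by
      by_contra hall
      push Not at hall
      refine hl' (P.isPrime.mem_of_pow_mem m ?_)
      rw [(S.isSol_univ (b := b) (m := m)).cover l]
      exact Ideal.sum_mem _ fun gp _ => Ideal.mul_mem_left _ _ (hall gp)
    obtain ⟨i, hi⟩ : ∃ i, S.univ (m := m) (.inl (gp.2, i)) ∉ P.asIdeal := by
      by_contra hall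
      push Not at hall
      exact hgp (Ideal.span_le.mpr (Set.range_subset_iff.mpr hall)
        (aeval_mem_span _ (S.hG gp.1) (S.hdG gp.1)))
    haveI := S.formallySmooth_chart (m := m) t hl l gp.2 i gp.1
    refine Algebra.basicOpen_subset_smoothLocus_iff.mpr
      (inferInstance : Algebra.FormallySmooth R (Localization.Away (S.chartElem (m := m) t l gp.2 i gp.1))) ?_
    simp only [PrimeSpectrum.basicOpen_eq_zeroLocus_compl, Set.mem_compl_iff, PrimeSpectrum.mem_zeroLocus,
      Set.singleton_subset_iff, SetLike.mem_coe, Sys.chartElem]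
    intro hmem
    exact (P.isPrime.mem_or_mem hmem).elim (fun h1 => (P.isPrime.mem_or_mem h1).elim
      (fun h2 => (P.isPrime.mem_or_mem h2).elim htP hl') hi) hgp
  haveI : Algebra.FormallySmooth R (Localization.Away t') :=
    Algebra.basicOpen_subset_smoothLocus_iff.mp hloc
  haveI : IsLocalization.Away t'
      (Localization (Algebra.algebraMapSubmonoid (S.W b m) (Submonoid.powers t))) := by
    have : Algebra.algebraMapSubmonoid (S.W b m) (Submonoid.powers t) = Submonoid.powers t' :=
      Submonoid.map_powers _ _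
    show IsLocalization (Submonoid.powers t') _
    rw [← this]
    infer_instance
  let e : Localization.Away t' ≃ₐ[S.W b m]
      Localization (Algebra.algebraMapSubmonoid (S.W b m) (Submonoid.powers t)) :=
    IsLocalization.algEquiv (Submonoid.powers t') (Localization.Away t')
      (Localization (Algebra.algebraMapSubmonoid (S.W b m) (Submonoid.powers t)))
  haveI : Algebra.FormallySmooth R (Localization (Algebra.algebraMapSubmonoid (S.W b m) (Submonoid.powers t))) :=
    Algebra.FormallySmooth.of_equiv (e.restrictScalars R)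
  haveI : Algebra.FinitePresentation (S.W b m)
      (Localization (Algebra.algebraMapSubmonoid (S.W b m) (Submonoid.powers t))) :=
    IsLocalization.Away.finitePresentation t' (S := Localization (Algebra.algebraMapSubmonoid (S.W b m) (Submonoid.powers t)))
  haveI : Algebra.FinitePresentation R
      (Localization (Algebra.algebraMapSubmonoid (S.W b m) (Submonoid.powers t))) :=
    Algebra.FinitePresentation.trans R (S.W b m) (Localization (Algebra.algebraMapSubmonoid (S.W b m) (Submonoid.powers t)))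
  haveI : Algebra.FiniteType R (Localization.Away t) := inferInstance
  exact { formallySmooth := Algebra.FormallySmooth.localization_base (R := R) (Submonoid.powers t)
          finitePresentation := Algebra.FinitePresentation.of_restrict_scalars_finitePresentation R (Localization.Away t)
            (Localization (Algebra.algebraMapSubmonoid (S.W b m) (Submonoid.powers t))) }

/-- Approximation of compatible solutions. -/
theorem Sys.exists_sol [IsNoetherianRing R] (J : Ideal R) [HenselianRing R J]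
    (hl : ∀ t ∈ J, S.Lifts t) (hk : J ≤ (Ideal.span (Set.range S.k)).radical)
    (y : ∀ n : ℕ, S.Var b → R ⧸ J ^ n) (hy : ∀ n, S.IsSol b m (R ⧸ J ^ n) (y n))
    (hcomp : ∀ i n, i ≤ n → ∀ z r, Ideal.Quotient.mk (J ^ n) r = y n z → Ideal.Quotient.mk (J ^ i) r = y i z)
    (n : ℕ) :
    ∃ x : S.Var b → R, S.IsSol b m R x ∧ ∀ z, Ideal.Quotient.mk (J ^ n) (x z) = y n z := by
  haveI : Algebra.FiniteType R (S.W b m) :=
    Algebra.FiniteType.of_surjective (Ideal.Quotient.mkₐ R _) Ideal.Quotient.mk_surjective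
  choose σ hσ using fun n => S.exists_hom (hy n)
  have hcomp' : ∀ i n, i ≤ n → ∀ w r, Ideal.Quotient.mk _ r = σ n w → Ideal.Quotient.mk _ r = σ i w := by
    intro i n hin w r hr
    have hle : J ^ n ≤ J ^ i := Ideal.pow_le_pow_right hin
    have : (Ideal.Quotient.factorₐ R hle).comp (σ n) = σ i := S.hom_ext fun z => by
      obtain ⟨r', hr'⟩ := Ideal.Quotient.mk_surjective (y n z)
      rw [AlgHom.comp_apply, hσ, hσ, ← hcomp i n hin z r' hr', ← hr']
      rfl
    rw [← this, AlgHom.comp_apply, ← hr]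
    rfl
  obtain ⟨τ, hτ⟩ := exists_algHom_of_compatible (S.W b m) J
    (fun t ht => S.smooth_W t (hl t ht) (hk ht)) σ hcomp' n
  exact ⟨τ ∘ S.univ, S.isSol_of_hom τ, fun z => (hτ _).trans (hσ n z)⟩

end Groth.Agent.Elkik88
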