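import Groth.Agent.Elkik88.Chart
import Groth.Agent.Elkik88.Solutions
import Mathlib

/-!
# The system of forms cutting out a subprojective scheme
-/

set_option autoImplicit false

universe u

open CategoryTheory CategoryTheory.Limits AlgebraicGeometry MvPolynomial

namespace Groth.Agent.Elkik88

open Groth.Agent.Chow

noncomputable section

variable {N L : ℕ} {A : Type u} [CommRing A]

theorem exists_homogenize (p : MvPolynomial (Fin (N + 1)) A) (i : Fin (N + 1)) :
    ∃ (P : MvPolynomial (Fin (N + 1)) A) (d : ℕ), P.IsHomogeneous d ∧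
      ∀ {T : Type u} [CommRing T] [Algebra A T] (u : Fin (N + 1) → T), u i = 1 → aeval u P = aeval u p := by
  refine ⟨∑ j ∈ Finset.range (p.totalDegree + 1), X i ^ (p.totalDegree - j) * homogeneousComponent j p,
    p.totalDegree, ?_, fun {T} _ _ u hu => ?_⟩
  · refine MvPolynomial.IsHomogeneous.sum _ _ _ fun j hj => ?_
    have hle : j ≤ p.totalDegree := Nat.lt_succ_iff.mp (Finset.mem_range.mp hj)
    have := (isHomogeneous_X_pow i (p.totalDegree - j) (R := A)).mul (homogeneousComponent_isHomogeneous j p)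
    rwa [Nat.sub_add_cancel hle] at this
  · conv_rhs => rw [← sum_homogeneousComponent p]
    simp only [map_sum, map_mul, map_pow, aeval_X, hu, one_pow, one_mul]

variable {U : (Spec (CommRingCat.of A)).Opens} {Z X₀ : Scheme.{u}}
  (κ : Z ⟶ CohB1.ProjSpaceOver N (U : Scheme.{u})) (ι : X₀ ⟶ Z)
  (k : Fin L → A) (c : ∀ l i, Chart κ (k l) i)

/-- Forms vanishing on the closed subscheme. -/
def vanSet : Set (MvPolynomial (Fin (N + 1)) A) :=
  {F | (∃ d, F.IsHomogeneous d) ∧ ∀ l i, aeval (c l i).v F = 0}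

/-- Forms of positive degree whose non-vanishing locus lies in the open subscheme. -/
def openSet : Set (MvPolynomial (Fin (N + 1)) A) :=
  {G | (∃ d, 0 < d ∧ G.IsHomogeneous d) ∧
    ∀ l i (x : Spec (CommRingCat.of (c l i).C)), aeval (c l i).v G ∉ x.asIdeal → (c l i).e x ∈ Set.range ι}

theorem exists_fin_span [IsNoetherianRing A] (s : Set (MvPolynomial (Fin (N + 1)) A)) :
    ∃ (a : ℕ) (F : Fin a → MvPolynomial (Fin (N + 1)) A), (∀ j, F j ∈ s) ∧
      ∀ p ∈ s, p ∈ Ideal.span (Set.range F) := by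
  obtain ⟨t, hts, ht⟩ := (Submodule.fg_span_iff_fg_span_finset_subset s).mp
    (IsNoetherian.noetherian (Ideal.span s))
  refine ⟨t.card, fun j => (t.equivFin.symm j).1, fun j => hts (t.equivFin.symm j).2, fun p hp => ?_⟩
  have h1 : p ∈ Ideal.span (t : Set (MvPolynomial (Fin (N + 1)) A)) := by
    show p ∈ Submodule.span _ _
    rw [← ht]
    exact Submodule.subset_span hp
  refine Ideal.span_mono (fun q hq => ?_) h1
  exact ⟨t.equivFin ⟨q, hq⟩, by simp⟩

variable {κ ι k c}

/-- On an overlap of two charts, a form is computed from its dehomogenisation. -/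
theorem exists_overlap (l : Fin L) (i : Fin (N + 1)) (l' : Fin L) (i' : Fin (N + 1)) :
    ∃ φ : (c l i).C →ₐ[A] Localization.Away (algebraMap A (c l' i').C (k l) * (c l' i').v i),
      Spec.map (CommRingCat.ofHom φ.toRingHom) ≫ (c l i).e =
        Spec.map (CommRingCat.ofHom (algebraMap (c l' i').C _)) ≫ (c l' i').e ∧
      ∀ (P : MvPolynomial (Fin (N + 1)) A) (d : ℕ), P.IsHomogeneous d →
        algebraMap (c l' i').C _ (aeval (c l' i').v P) =
          algebraMap (c l' i').C _ ((c l' i').v i) ^ d * φ (aeval (c l i).v P) := by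
  let s : (c l' i').C := algebraMap A (c l' i').C (k l) * (c l' i').v i
  have hs := IsLocalization.Away.algebraMap_isUnit (S := Localization.Away s) s
  rw [map_mul, IsUnit.mul_iff] at hs
  let β : (c l' i').C →ₐ[A] Localization.Away s := IsScalarTower.toAlgHom A _ _
  have hw1 : β ((c l' i').v i') = 1 := by rw [(c l' i').one, map_one]
  obtain ⟨φ, hφ, hφv⟩ := (c l i).exists_lift (T := Localization.Away s)
    (Spec.map (CommRingCat.ofHom β.toRingHom) ≫ (c l' i').e) ((c l' i').pt_base β)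
    (β ∘ (c l' i').v) i' (by show IsUnit (β ((c l' i').v i')); rw [hw1]; exact isUnit_one)
    ((c l' i').pt_coord β) hs.2 (by rw [IsScalarTower.algebraMap_apply A (c l' i').C]; exact hs.1)
  refine ⟨φ, hφ, fun P d hP => ?_⟩
  have h1 : (β ∘ (c l' i').v) = fun a => (β ((c l' i').v i)) * φ ((c l i).v a) :=
    funext fun a => (hφv a).symm
  show β (aeval (c l' i').v P) = β ((c l' i').v i) ^ d * φ (aeval (c l i).v P)
  rw [comp_aeval_apply, comp_aeval_apply]
  rw [show (fun a => β ((c l' i').v a)) = β ∘ (c l' i').v from rfl, h1,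
    aeval_mul_left (fun a => φ ((c l i).v a)) (β ((c l' i').v i)) hP]

/-- Vanishing forms cut out the chart. -/
theorem aeval_eq_zero_of_van (l : Fin L) (i : Fin (N + 1)) {T : Type u} [CommRing T] [Algebra A T]
    (w : Fin (N + 1) → T) (hw : w i = 1) (hk : IsUnit (algebraMap A T (k l)))
    (hF : ∀ F ∈ vanSet κ k c, aeval w F = 0) (p : MvPolynomial (Fin (N + 1)) A)
    (hp : aeval (c l i).v p = 0) : aeval w p = 0 := by
  classical
  obtain ⟨P, d, hP, hPeq⟩ := exists_homogenize p i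
  have h1 : ∀ li : Fin L × Fin (N + 1), ∃ e, (algebraMap A (c li.1 li.2).C (k l) * (c li.1 li.2).v i) ^ e *
      aeval (c li.1 li.2).v P = 0 := fun li => by
    obtain ⟨φ, -, hφ⟩ := exists_overlap (c := c) l i li.1 li.2
    have h2 := hφ P d hP
    rw [hPeq _ (c l i).one, hp, map_zero, mul_zero] at h2
    obtain ⟨⟨_, e, rfl⟩, he⟩ := (IsLocalization.map_eq_zero_iff
      (Submonoid.powers (algebraMap A (c li.1 li.2).C (k l) * (c li.1 li.2).v i)) _ _).mp h2
    exact ⟨e, he⟩
  choose e he using h1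
  let E := Finset.univ.sup e
  have hmem : (MvPolynomial.C (k l) * X i) ^ E * P ∈ vanSet κ k c := by
    refine ⟨⟨1 * E + d, (((isHomogeneous_X A i).C_mul (k l)).pow E).mul hP⟩, fun l' i' => ?_⟩
    have h3 : e (l', i') ≤ E := Finset.le_sup (Finset.mem_univ _)
    rw [map_mul, map_pow, map_mul, aeval_C, aeval_X, ← Nat.sub_add_cancel h3, pow_add, mul_assoc,
      he (l', i'), mul_zero]
  have h4 := hF _ hmem
  rw [map_mul, map_pow, map_mul, aeval_C, aeval_X, hw, mul_one, hPeq w hw] at h4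
  exact (hk.pow E).mul_right_eq_zero.mp h4

/-- A vector satisfying the vanishing forms gives a point of a chart. -/
theorem exists_chart_hom (l : Fin L) (i : Fin (N + 1)) {T : Type u} [CommRing T] [Algebra A T]
    (w : Fin (N + 1) → T) (hw : w i = 1) (hk : IsUnit (algebraMap A T (k l)))
    (hF : ∀ F ∈ vanSet κ k c, aeval w F = 0) :
    ∃ φ : (c l i).C →ₐ[A] T, ∀ j, φ ((c l i).v j) = w j := by
  let B : Type u := MvPolynomial (Fin (N + 1)) A
  let Q : Type u := Localization.Away (MvPolynomial.C (k l) : B)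
  have hu1 : IsUnit (aeval (c l i).v (MvPolynomial.C (k l) : B)) := by rw [aeval_C]; exact (c l i).unit_k
  have hu2 : IsUnit (aeval w (MvPolynomial.C (k l) : B)) := by rwa [aeval_C]
  let π : Q →ₐ[A] (c l i).C := IsLocalization.Away.liftAlgHom (MvPolynomial.C (k l) : B) (f := aeval (c l i).v) hu1
  let ψ : Q →ₐ[A] T := IsLocalization.Away.liftAlgHom (MvPolynomial.C (k l) : B) (f := aeval w) hu2
  have hπ : ∀ p, π (algebraMap B Q p) = aeval (c l i).v p := fun p => by
    rw [IsLocalization.Away.liftAlgHom_apply]; exact IsLocalization.Away.lift_eq _ hu1 p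
  have hψ : ∀ p, ψ (algebraMap B Q p) = aeval w p := fun p => by
    rw [IsLocalization.Away.liftAlgHom_apply]; exact IsLocalization.Away.lift_eq _ hu2 p
  have hs : Function.Surjective π := fun x => by
    obtain ⟨p, n, hp⟩ := (c l i).gen x
    obtain ⟨u, hu⟩ := (IsLocalization.Away.algebraMap_isUnit (S := Q) (MvPolynomial.C (k l) : B)).pow n
    refine ⟨↑u⁻¹ * algebraMap B Q p, ?_⟩
    have h1 : π (↑u) = algebraMap A (c l i).C (k l) ^ n := by rw [hu, map_pow, hπ, aeval_C]
    apply (((c l i).unit_k).pow n).mul_right_inj.mp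
    rw [hp, ← h1, ← map_mul, Units.mul_inv_cancel_left, hπ]
  have hker : RingHom.ker π ≤ RingHom.ker ψ := fun q hq => by
    obtain ⟨n, p, hp⟩ := IsLocalization.Away.surj (MvPolynomial.C (k l) : B) q
    have h1 := congrArg π hp
    rw [map_mul, show π q = 0 from hq, zero_mul, hπ] at h1
    have h2 := congrArg ψ hp
    rw [map_mul, map_pow, hψ, hψ, aeval_eq_zero_of_van l i w hw hk hF p h1.symm, aeval_C] at h2
    exact (hk.pow n).mul_left_eq_zero.mp h2
  let φ₀ : (c l i).C →ₐ[A] T :=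
    (Ideal.Quotient.liftₐ (RingHom.ker π) ψ hker).comp (Ideal.quotientKerAlgEquivOfSurjective hs).symm.toAlgHom
  have hφ : ∀ q, φ₀ (π q) = ψ q := fun q => by
    show Ideal.Quotient.liftₐ (RingHom.ker π) ψ hker ((Ideal.quotientKerAlgEquivOfSurjective hs).symm (π q)) = _
    rw [show (Ideal.quotientKerAlgEquivOfSurjective hs).symm (π q) = Ideal.Quotient.mk _ q from
      (AlgEquiv.symm_apply_eq _).mpr rfl]
    rfl
  refine ⟨φ₀, fun j => ?_⟩
  rw [← aeval_X (R := A) (c l i).v j, ← hπ, hφ, hψ, aeval_X]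

/-- The open subscheme is covered by the loci of its forms. -/
theorem exists_openSet [IsOpenImmersion ι] (l : Fin L) (i : Fin (N + 1))
    (x : Spec (CommRingCat.of (c l i).C)) (hx : (c l i).e x ∈ Set.range ι) :
    ∃ G ∈ openSet κ ι k c, aeval (c l i).v G ∉ x.asIdeal := by
  obtain ⟨_, ⟨f, rfl⟩, hxf, hsub⟩ := PrimeSpectrum.isTopologicalBasis_basic_opens.exists_subset_of_mem_open
    (a := x) hx (ι.isOpenEmbedding.isOpen_range.preimage (c l i).e.continuous)
  obtain ⟨p, n, hp⟩ := (c l i).gen f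
  obtain ⟨P, d, hP, hPeq⟩ := exists_homogenize p i
  have hG : (MvPolynomial.C (k l) * X i * P).IsHomogeneous (1 + d) :=
    ((isHomogeneous_X A i).C_mul (k l)).mul hP
  refine ⟨_, ⟨⟨1 + d, by omega, hG⟩, fun l' i' x' hx' => ?_⟩, ?_⟩
  · simp only [map_mul, aeval_C, aeval_X] at hx'
    let s : (c l' i').C := algebraMap A (c l' i').C (k l) * (c l' i').v i
    have hs : s ∉ x'.asIdeal := fun h => hx' (x'.asIdeal.mul_mem_right _ h)
    obtain ⟨q, hq⟩ : x' ∈ Set.range (PrimeSpectrum.comap (algebraMap (c l' i').C (Localization.Away s))) := by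
      rw [PrimeSpectrum.localization_away_comap_range (Localization.Away s) s]
      exact hs
    obtain ⟨φ, hφ, hφP⟩ := exists_overlap (c := c) l i l' i'
    have h1 : (c l i).e (Spec.map (CommRingCat.ofHom φ.toRingHom) q) = (c l' i').e x' :=
      (congrArg (fun g : Spec (CommRingCat.of (Localization.Away s)) ⟶ Z => g q) hφ).trans
        (congrArg (fun z => (c l' i').e z) hq)
    rw [← h1]
    refine hsub (show f ∉ q.asIdeal.comap φ.toRingHom from fun hf => ?_)
    have h2 : φ (aeval (c l i).v p) ∈ q.asIdeal := by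
      rw [← hp, map_mul]
      exact q.asIdeal.mul_mem_left _ hf
    have h3 := hφP P d hP
    rw [hPeq _ (c l i).one] at h3
    refine hx' (x'.asIdeal.mul_mem_left _ ?_)
    rw [← hq]
    show algebraMap _ (Localization.Away s) (aeval (c l' i').v P) ∈ q.asIdeal
    rw [h3]
    exact q.asIdeal.mul_mem_left _ h2
  · simp only [map_mul, aeval_C, aeval_X, (c l i).one, mul_one, hPeq _ (c l i).one, ← hp]
    exact fun h => (x.isPrime.mem_or_mem h).elim
      (fun h' => x.isPrime.ne_top (Ideal.eq_top_of_isUnit_mem _ h' (c l i).unit_k)) fun h' =>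
      (x.isPrime.mem_or_mem h').elim
        (fun h'' => x.isPrime.ne_top (Ideal.eq_top_of_isUnit_mem _ h'' ((c l i).unit_k.pow n))) hxf

/-- Good vectors lift. -/
theorem exists_lift_good [IsOpenImmersion ι] {J : Ideal A}
    (hsm : Smooth ((ι ≫ κ ≫ CohB1.ProjSpaceOver.toBase N (U : Scheme.{u})) ∣_
      (U.ι ⁻¹ᵁ ⟨(PrimeSpectrum.zeroLocus (J : Set A))ᶜ, (PrimeSpectrum.isClosed_zeroLocus (J : Set A)).isOpen_compl⟩)))
    {t : A} (ht : t ∈ J) (l : Fin L) (i : Fin (N + 1)) (G : MvPolynomial (Fin (N + 1)) A)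
    (hG : G ∈ openSet κ ι k c) {T : Type u} [CommRing T] [Algebra A T] (I : Ideal T) (hI : I ^ 2 = ⊥)
    (φb : (c l i).C →ₐ[A] T ⧸ I) (hut : IsUnit (algebraMap A (T ⧸ I) t))
    (huG : IsUnit (φb (aeval (c l i).v G))) :
    ∃ ψ : (c l i).C →ₐ[A] T, ∀ x, Ideal.Quotient.mk I (ψ x) = φb x := by
  haveI := (c l i).openImm
  let s : (c l i).C := algebraMap A (c l i).C t * aeval (c l i).v G
  let C' : Type u := Localization.Away s
  have hs := IsLocalization.Away.algebraMap_isUnit (S := C') s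
  rw [map_mul, IsUnit.mul_iff] at hs
  let lz : Spec (CommRingCat.of C') ⟶ Spec (CommRingCat.of (c l i).C) :=
    Spec.map (CommRingCat.ofHom (algebraMap (c l i).C C'))
  haveI : IsOpenImmersion lz := IsOpenImmersion.of_isLocalization s
  have hr : Set.range (lz ≫ (c l i).e) ⊆ Set.range ι := by
    rintro _ ⟨x, rfl⟩
    exact hG.2 l i (lz x) fun h => x.isPrime.ne_top (Ideal.eq_top_of_isUnit_mem _ h hs.2)
  let g : Spec (CommRingCat.of C') ⟶ X₀ := IsOpenImmersion.lift ι (lz ≫ (c l i).e) hr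
  haveI : IsOpenImmersion (g ≫ ι) := by rw [IsOpenImmersion.lift_fac]; infer_instance
  haveI : IsOpenImmersion g := IsOpenImmersion.of_comp g ι
  let f := ι ≫ κ ≫ CohB1.ProjSpaceOver.toBase N (U : Scheme.{u})
  let W' : (U : Scheme.{u}).Opens :=
    U.ι ⁻¹ᵁ ⟨(PrimeSpectrum.zeroLocus (J : Set A))ᶜ, (PrimeSpectrum.isClosed_zeroLocus (J : Set A)).isOpen_compl⟩
  have hgf : g ≫ f ≫ U.ι = Spec.map (CommRingCat.ofHom (algebraMap A C')) := by
    simp only [f, Category.assoc, g, IsOpenImmersion.lift_fac_assoc]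
    rw [show (c l i).e ≫ κ ≫ CohB1.ProjSpaceOver.toBase N (U : Scheme.{u}) ≫ U.ι = _ from (c l i).base,
      ← Spec.map_comp, ← CommRingCat.ofHom_comp, ← IsScalarTower.algebraMap_eq]
  have hr2 : Set.range g ⊆ Set.range (f ⁻¹ᵁ W').ι := by
    rintro _ ⟨x, rfl⟩
    rw [Scheme.Opens.range_ι]
    show (f ≫ U.ι) (g x) ∈ (PrimeSpectrum.zeroLocus (J : Set A))ᶜ
    rw [← Scheme.Hom.comp_apply, hgf]
    intro hx
    refine x.isPrime.ne_top (Ideal.eq_top_of_isUnit_mem _ (hx ht : algebraMap A C' t ∈ x.asIdeal) ?_)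
    show IsUnit (algebraMap A C' t)
    rw [IsScalarTower.algebraMap_apply A (c l i).C]
    exact hs.1
  let g' := IsOpenImmersion.lift (f ⁻¹ᵁ W').ι g hr2
  haveI : IsOpenImmersion (g' ≫ (f ⁻¹ᵁ W').ι) := by rw [IsOpenImmersion.lift_fac]; infer_instance
  haveI : IsOpenImmersion g' := IsOpenImmersion.of_comp g' (f ⁻¹ᵁ W').ι
  haveI : Smooth (f ∣_ W') := hsm
  have h1 : Smooth (g' ≫ (f ∣_ W') ≫ W'.ι ≫ U.ι) := inferInstance
  rw [morphismRestrict_ι_assoc, IsOpenImmersion.lift_fac_assoc, hgf,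
    HasRingHomProperty.Spec_iff (P := @Smooth)] at h1
  haveI : Algebra.Smooth A C' := RingHom.smooth_algebraMap.mp h1
  haveI : Algebra.FormallySmooth A C' := Algebra.Smooth.formallySmooth
  have hu : IsUnit (φb s) := by rw [map_mul, AlgHom.commutes]; exact hut.mul huG
  obtain ⟨ψ, hψ⟩ := Algebra.FormallySmooth.comp_surjective A C' I hI
    (IsLocalization.Away.liftAlgHom s (f := φb) hu)
  refine ⟨ψ.comp (IsScalarTower.toAlgHom A (c l i).C C'), fun x => ?_⟩
  refine (AlgHom.congr_fun hψ (algebraMap (c l i).C C' x)).trans ?_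
  rw [IsLocalization.Away.liftAlgHom_apply]
  exact IsLocalization.Away.lift_eq s hu x

end

end Groth.Agent.Elkik88
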